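import Cfsg.Agent.FourGroupGW.Chars.Count

/-!
# The four characters over a linear character of `W`

Modulo two the coefficient at an invariant character is the multiplicity of its correspondent in `χ` on `W`, which
`σ` does not see.  Over a fixed `ψ` the four characters have values `± θ` on `tO`; over a moved `ψ` with linear lifts
the three coefficient vectors are orthogonal, so the four degrees are equal.
-/

set_option autoImplicit false
set_option linter.unusedSectionVars false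
set_option linter.style.haveILetI false

namespace Cfsg.Lib.GW.Chr

open Cfsg Cfsg.Lib.Chars Cfsg.Lib.Blocks
open scoped ComplexConjugate

universe u

variable {G : Type u} [Group G] [Fintype G] {M : Ideal AlgInt}

/-- Three orthogonal sign vectors on four points, orthogonal to a positive vector. -/
theorem sign_rows {ι : Type*} (X : Finset ι) (hX : X.card = 4) (a b c : ι → ℤ) (x : ι → ℤ)
    (ha : ∀ i ∈ X, a i = 1 ∨ a i = -1) (hb : ∀ i ∈ X, b i = 1 ∨ b i = -1) (hc : ∀ i ∈ X, c i = 1 ∨ c i = -1)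
    (hx : ∀ i ∈ X, 0 < x i) (hab : ∑ i ∈ X, a i * b i = 0) (hac : ∑ i ∈ X, a i * c i = 0)
    (hbc : ∑ i ∈ X, b i * c i = 0) (hax : ∑ i ∈ X, a i * x i = 0) (hbx : ∑ i ∈ X, b i * x i = 0)
    (hcx : ∑ i ∈ X, c i * x i = 0) :
    ∃ x₀ ε : ℤ, (ε = 1 ∨ ε = -1) ∧ (∀ i ∈ X, x i = x₀) ∧ ∑ i ∈ X, (a i + b i + c i) ^ 2 * a i = 8 * ε := by
  classical
  have sq : ∀ {y : ℤ}, y = 1 ∨ y = -1 → y * y = 1 := by rintro _ (rfl | rfl) <;> rfl
  set u := fun i => a i * b i with hu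
  set v := fun i => a i * c i with hv
  have hupm : ∀ i ∈ X, u i = 1 ∨ u i = -1 := fun i hi => by
    rcases ha i hi with h | h <;> rcases hb i hi with h' | h' <;> simp [hu, h, h']
  have hvpm : ∀ i ∈ X, v i = 1 ∨ v i = -1 := fun i hi => by
    rcases ha i hi with h | h <;> rcases hc i hi with h' | h' <;> simp [hv, h, h']
  have huv : ∑ i ∈ X, u i * v i = 0 := by
    rw [← hbc]
    exact Finset.sum_congr rfl fun i hi => by
      simp only [hu, hv]
      linear_combination (b i * c i) * sq (ha i hi)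
  have key : ∀ j ∈ X, 4 * x j = a j * b j * c j * ∑ k ∈ X, a k * b k * c k * x k := by
    intro j hj
    set w := fun k => (1 + u j * u k) * (1 + v j * v k) with hw
    have hsum : ∑ k ∈ X, w k = 4 := by
      rw [Finset.sum_congr rfl (g := fun k => 1 + u j * u k + v j * v k + u j * v j * (u k * v k))
        fun k _ => by rw [hw]; ring, Finset.sum_add_distrib, Finset.sum_add_distrib, Finset.sum_add_distrib,
        ← Finset.mul_sum, ← Finset.mul_sum, ← Finset.mul_sum, show ∑ k ∈ X, u k = 0 from hab,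
        show ∑ k ∈ X, v k = 0 from hac, huv, Finset.sum_const, hX]
      simp
    have hwj : w j = 4 := by simp only [hw]; rw [sq (hupm j hj), sq (hvpm j hj)]; rfl
    have hnn : ∀ k ∈ X.erase j, 0 ≤ w k := fun k hk => by
      have hk' := (Finset.mem_erase.1 hk).2
      rcases hupm j hj with h | h <;> rcases hupm k hk' with h' | h' <;> rcases hvpm j hj with g | g <;>
        rcases hvpm k hk' with g' | g' <;> simp [hw, h, h', g, g']
    have hzero := (Finset.sum_eq_zero_iff_of_nonneg hnn).1 (by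
      have := Finset.add_sum_erase X w hj
      rw [hsum, hwj] at this
      linarith)
    have h2 : ∑ k ∈ X, w k * (a k * x k) = 4 * (a j * x j) := by
      rw [← Finset.add_sum_erase X _ hj, hwj, Finset.sum_eq_zero fun k hk => by rw [hzero k hk, zero_mul], add_zero]
    rw [Finset.sum_congr rfl (g := fun k => a k * x k + u j * (b k * x k) + v j * (c k * x k) +
      u j * v j * (a k * b k * c k * x k)) fun k hk => by
        simp only [hw, hu, hv]
        linear_combination (a j * b j * (b k * x k) + a j * c j * (c k * x k) +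
          a j * b j * (a j * c j) * (a k * b k * c k * x k)) * sq (ha k hk), Finset.sum_add_distrib,
      Finset.sum_add_distrib, Finset.sum_add_distrib, ← Finset.mul_sum, ← Finset.mul_sum, ← Finset.mul_sum,
      hax, hbx, hcx] at h2
    simp only [hu, hv, mul_zero, zero_add] at h2
    linear_combination (-(a j)) * h2 + (a j * b j * c j * (∑ k ∈ X, a k * b k * c k * x k) - 4 * x j) * sq (ha j hj)
  obtain ⟨j, hj⟩ := Finset.card_pos.1 (by omega : 0 < X.card)
  set S := ∑ k ∈ X, a k * b k * c k * x k with hS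
  have he : ∀ i ∈ X, a i * b i * c i = 1 ∨ a i * b i * c i = -1 := fun i hi => by
    rcases ha i hi with h | h <;> rcases hb i hi with h' | h' <;> rcases hc i hi with h'' | h'' <;>
      simp [h, h', h'']
  have hconst : ∀ i ∈ X, a i * b i * c i = a j * b j * c j ∧ x i = x j := by
    intro i hi
    have h1 := key i hi
    have h2 := key j hj
    have := hx i hi
    have := hx j hj
    rcases he i hi with e | e <;> rcases he j hj with e' | e' <;> rw [e] at h1 <;> rw [e'] at h2 <;>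
      rw [e, e'] <;> constructor <;> linarith
  refine ⟨x j, a j * b j * c j, he j hj, fun i hi => (hconst i hi).2, ?_⟩
  set ε := a j * b j * c j with hε
  have hεs : ε * ε = 1 := sq (he j hj)
  have hsa : ∑ i ∈ X, a i = 0 := by
    rw [Finset.sum_congr rfl (g := fun i => ε * (b i * c i)) fun i hi => ?_, ← Finset.mul_sum, hbc, mul_zero]
    rw [← (hconst i hi).1]
    linear_combination (-a i) * sq (hb i hi) - (a i * (b i * b i)) * sq (hc i hi)
  have hsb : ∑ i ∈ X, b i = 0 := by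
    rw [Finset.sum_congr rfl (g := fun i => ε * (a i * c i)) fun i hi => ?_, ← Finset.mul_sum, hac, mul_zero]
    rw [← (hconst i hi).1]
    linear_combination (-b i) * sq (ha i hi) - (b i * (a i * a i)) * sq (hc i hi)
  have hsc : ∑ i ∈ X, c i = 0 := by
    rw [Finset.sum_congr rfl (g := fun i => ε * (a i * b i)) fun i hi => ?_, ← Finset.mul_sum, hab, mul_zero]
    rw [← (hconst i hi).1]
    linear_combination (-c i) * sq (ha i hi) - (c i * (a i * a i)) * sq (hb i hi)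
  rw [Finset.sum_congr rfl (g := fun i => 3 * a i + 2 * b i + 2 * c i + 2 * ε) fun i hi => ?_,
    Finset.sum_add_distrib, Finset.sum_add_distrib, Finset.sum_add_distrib, ← Finset.mul_sum, ← Finset.mul_sum,
    ← Finset.mul_sum, hsa, hsb, hsc, Finset.sum_const, hX]
  · simp; ring
  · rw [← (hconst i hi).1]
    linear_combination (a i + 2 * b i + 2 * c i) * sq (ha i hi) + a i * sq (hb i hi) + a i * sq (hc i hi)

namespace Data

variable (D : Data G) [Fintype D.O] [Fintype D.W] [Fintype D.C]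

/-- The multiplicities do not distinguish a character from its conjugate by `u`. -/
theorem mu_twist (χ : IrrCharacter G) (θ : IrrCharacter D.O) :
    D.mu χ (Glauberman.twist D.cuAut θ) = D.mu χ θ := by
  apply Int.cast_injective (α := ℂ)
  rw [← D.mu_spec, ← D.mu_spec]
  refine Eq.trans ?_ (classInner_comp_equiv D.cuAut.toEquiv (fun y : D.O => (χ : G → ℂ) (D.t * y)) (θ : D.O → ℂ))
  congr 1
  funext y
  show (χ : G → ℂ) (D.t * y) = (χ : G → ℂ) (D.t * (D.u * (y : G) * D.u⁻¹))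
  rw [← isClassFunction_irr χ (D.t * (y : G)) D.u]
  exact congrArg _ (calc D.u * (D.t * (y : G)) * D.u⁻¹ = D.u * D.t * (y : G) * D.u⁻¹ := by group
    _ = D.t * D.u * (y : G) * D.u⁻¹ := by rw [D.tu.eq]
    _ = D.t * (D.u * (y : G) * D.u⁻¹) := by group)

/-- The Glauberman correspondent. -/
noncomputable def corrOf (θ : IrrCharacter D.O) : IrrCharacter D.W := by
  classical
  exact if h : ∃ β, Glauberman.Corr 2 D.ιW θ β then h.choose else D.lin 1

theorem corrOf_eq [Fact (Nat.Prime 2)] {θ : IrrCharacter D.O} (hθ : D.Inv (θ : D.O → ℂ))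
    {β : IrrCharacter D.W} (hβ : Glauberman.Corr 2 D.ιW θ β) : D.corrOf θ = β := by
  classical
  have he : ∃ β, Glauberman.Corr 2 D.ιW θ β := ⟨β, hβ⟩
  unfold corrOf
  rw [dif_pos he]
  exact (Glauberman.existsUnique_corr D.actU_isPGroup D.odd_card_O D.actU_fixed (D.inv_actU hθ)).unique
    he.choose_spec hβ

theorem corr_corrOf [Fact (Nat.Prime 2)] {θ : IrrCharacter D.O} (hθ : D.Inv (θ : D.O → ℂ)) :
    Glauberman.Corr 2 D.ιW θ (D.corrOf θ) := by
  obtain ⟨β, hβ⟩ := (Glauberman.existsUnique_corr D.actU_isPGroup D.odd_card_O D.actU_fixed (D.inv_actU hθ)).exists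
  rw [D.corrOf_eq hθ hβ]; exact hβ

/-- Modulo two a coefficient is a multiplicity on `W`. -/
theorem res_mu (hM : IsPModular 2 M) (χ : IrrCharacter G) {θ : IrrCharacter D.O} (hθ : D.Inv (θ : D.O → ℂ))
    {β : IrrCharacter D.W} (hβ : Glauberman.Corr 2 D.ιW θ β) :
    (D.mu χ θ : Res M) = ∑ v : D.W, res M ((χ : G → ℂ) (v : G)) * res M (conj ((β : D.W → ℂ) v)) := by
  classical
  haveI : Fact (Nat.Prime 2) := ⟨Nat.prime_two⟩
  haveI := charP_res hM
  have hconj : ∀ v : D.W, conj ((β : D.W → ℂ) v) ∈ place M := fun v => by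
    rw [← IsCharacter.conj_inv (isCharacter_of_irr β.2)]
    exact apply_mem_place hM (isCharacter_of_irr β.2) _
  have hval : ∀ v : D.W, res M ((χ : G → ℂ) (v : G)) =
      ∑ φ ∈ Finset.univ.filter (fun φ : IrrCharacter D.O => D.Inv (φ : D.O → ℂ)),
        (D.mu χ φ : Res M) * res M ((D.corrOf φ : D.W → ℂ) v) := by
    intro v
    rw [← res_translate hM (isCharacter_of_irr χ.2) D.t2 (D.commute_t (D.W_le_O v.2)) (D.odd_O (D.W_le_O v.2)),
      show D.t * (v : G) = D.t * ((D.ιW v : D.O) : G) from rfl, D.apply_t_mul,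
      res_sum _ _ fun φ _ => mul_mem (intCast_mem_place _) (apply_mem_place hM (isCharacter_of_irr φ.2) _),
      Finset.sum_congr rfl fun φ _ => by
        rw [res_mul (intCast_mem_place _) (apply_mem_place hM (isCharacter_of_irr φ.2) _), res_intCast],
      D.res_sum_invariant hM fun φ => by
        rw [D.mu_twist, Glauberman.twist_apply]
        congr 2
        exact congrArg _ ((D.cu_eq_self_iff (D.ιW v)).2 v.2)]
    refine Finset.sum_congr rfl fun φ hφ => ?_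
    obtain ⟨γ, hγ, hγv⟩ := D.exists_corr hM φ (Finset.mem_filter.1 hφ).2
    rw [hγv v, D.corrOf_eq (Finset.mem_filter.1 hφ).2 hγ]
  have horth : ∀ γ : IrrCharacter D.W,
      ∑ v : D.W, res M ((γ : D.W → ℂ) v) * res M (conj ((β : D.W → ℂ) v)) = if γ = β then 1 else 0 := by
    intro γ
    rw [Finset.sum_congr rfl fun v _ => (res_mul (apply_mem_place hM (isCharacter_of_irr γ.2) v) (hconj v)).symm,
      ← res_sum _ _ fun v _ => mul_mem (apply_mem_place hM (isCharacter_of_irr γ.2) v) (hconj v)]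
    have h1 := classInner_irrCharacter γ β
    rw [classInner_def, inv_mul_eq_iff_eq_mul₀ (Nat.cast_ne_zero.2 Nat.card_pos.ne')] at h1
    rw [h1]
    split_ifs
    · rw [mul_one, res_natCast]
      obtain ⟨k, hk⟩ := Nat.not_even_iff_odd.1 fun h2 => D.odd_card_W (even_iff_two_dvd.1 h2)
      rw [hk, Nat.cast_add, Nat.cast_mul, Nat.cast_ofNat, CharTwo.two_eq_zero, zero_mul, zero_add, Nat.cast_one]
    · rw [mul_zero, res_zero]
  simp only [hval, Finset.sum_mul]
  rw [Finset.sum_comm, Finset.sum_congr rfl fun φ _ => by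
    rw [Finset.sum_congr rfl fun v _ => mul_assoc _ _ _, ← Finset.mul_sum, horth],
    Finset.sum_eq_single θ ?_ fun h => (h (Finset.mem_filter.2 ⟨Finset.mem_univ _, hθ⟩)).elim]
  · rw [if_pos (D.corrOf_eq hθ hβ), mul_one]
  · intro φ hφ hne
    rw [if_neg fun e => hne ?_, mul_zero]
    exact Glauberman.corr_injective D.actU_isPGroup D.odd_card_O D.actU_fixed
      (D.inv_actU (Finset.mem_filter.1 hφ).2) (D.inv_actU hθ) (e ▸ D.corr_corrOf (Finset.mem_filter.1 hφ).2) hβ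

/-- The parity of a degree, from the invariant characters. -/
theorem res_deg (hM : IsPModular 2 M) (χ : IrrCharacter G)
    [DecidablePred fun θ : IrrCharacter D.O => D.Inv (θ : D.O → ℂ)] :
    ((deg (χ : G → ℂ) : ℕ) : Res M) =
      ∑ θ ∈ Finset.univ.filter (fun θ : IrrCharacter D.O => D.Inv (θ : D.O → ℂ)),
        (D.mu χ θ : Res M) * ((deg (θ : D.O → ℂ) : ℕ) : Res M) := by
  rw [← res_natCast (deg (χ : G → ℂ)), ← irr_apply_one_eq_deg,
    ← res_translate hM (isCharacter_of_irr χ.2) D.t2 (Commute.one_right D.t) (by rw [orderOf_one]; norm_num),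
    show D.t * 1 = D.t * ((1 : D.O) : G) from rfl, D.apply_t_mul,
    res_sum _ _ fun φ _ => mul_mem (intCast_mem_place _) (apply_mem_place hM (isCharacter_of_irr φ.2) _),
    Finset.sum_congr rfl fun φ _ => by
      rw [res_mul (intCast_mem_place _) (apply_mem_place hM (isCharacter_of_irr φ.2) _), res_intCast,
        irr_apply_one_eq_deg, res_natCast]]
  exact D.res_sum_invariant hM fun φ => by
    rw [D.mu_twist]
    congr 2
    unfold deg
    rw [Glauberman.twist_apply, map_one]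

/-- FIX. -/
theorem fix_four (hM : IsPModular 2 M) (θ : IrrCharacter D.O) (hθ : D.Inv (θ : D.O → ℂ)) {ψ : ↥D.W →* ℂˣ}
    (hψ : Glauberman.Corr 2 D.ιW θ (D.lin ψ)) (hfix : ∀ v, ψ (D.cσ v) = ψ v) :
    ∃ (X : Finset (IrrCharacter G)) (d : IrrCharacter G → ℤ),
      X.card = 4 ∧ (∀ χ ∈ X, d χ = 1 ∨ d χ = -1) ∧
      (∀ χ ∈ X, ∀ y : D.O, (χ : G → ℂ) (D.t * y) = (d χ : ℂ) * (θ : D.O → ℂ) y) ∧
      (∀ χ, χ ∉ X → ∑ y : D.O, (χ : G → ℂ) (D.t * y) * conj ((θ : D.O → ℂ) y) = 0) ∧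
      (∑ χ ∈ X, d χ * (deg (χ : G → ℂ) : ℤ) = 0) ∧
      ∑ χ ∈ X, (d χ : ℂ) / (deg (χ : G → ℂ) : ℂ) = 32 * (Nat.card D.O : ℂ) ^ 3 /
        ((Nat.card D.W : ℂ) ^ 2 * (Nat.card G : ℂ) * (deg (θ : D.O → ℂ) : ℂ) ^ 3) := by
  classical
  haveI : Fact (Nat.Prime 2) := ⟨Nat.prime_two⟩
  haveI := charP_res hM
  obtain ⟨hcard, hpm⟩ := D.four_support θ hθ
  set X := Finset.univ.filter fun χ : IrrCharacter G => D.mu χ θ ≠ 0 with hX
  have hmemX : ∀ χ, χ ∈ X ↔ D.mu χ θ ≠ 0 := fun χ => by simp [hX]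
  have hit : ∀ (i : ℕ) (v : D.W), ψ (D.cσ^[i] v) = ψ v := by
    intro i v
    induction i with
    | zero => rfl
    | succ n ih => rw [Function.iterate_succ_apply', hfix, ih]
  have hsingle : ∀ χ, D.mu χ θ ≠ 0 → ∀ φ, D.mu χ φ ≠ 0 → D.Inv (φ : D.O → ℂ) → φ = θ := by
    intro χ h φ hne hφ
    obtain ⟨β, hβ, i, hi⟩ := D.corr_of_shared hM hθ hφ h hne hψ
    refine Glauberman.corr_injective D.actU_isPGroup D.odd_card_O D.actU_fixed (D.inv_actU hφ) (D.inv_actU hθ)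
      (?_ : Glauberman.Corr 2 D.ιW φ (D.lin ψ)) hψ
    convert hβ using 2
    refine Subtype.ext (funext fun w => ?_)
    have hinj : Function.Injective (D.cσ^[(i : ℕ)]) := Function.Injective.iterate (fun a b h => Subtype.ext (by
      simpa [cσ] using congrArg Subtype.val h)) _
    obtain ⟨v, rfl⟩ := (Finite.injective_iff_surjective.1 hinj) w
    rw [hi]
    show ((ψ (D.cσ^[(i : ℕ)] v)) : ℂ) = _
    rw [hit]
  have hodd : ∀ χ ∈ X, ¬ 2 ∣ deg (χ : G → ℂ) := by
    intro χ hχ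
    have h := (hmemX χ).1 hχ
    rw [← res_natCast_eq_zero_iff hM, D.res_deg hM χ, Finset.sum_eq_single θ
      (fun φ hφ hne => by
        by_cases hφ0 : D.mu χ φ = 0
        · rw [hφ0, Int.cast_zero, zero_mul]
        · exact absurd (hsingle χ h φ hφ0 (Finset.mem_filter.1 hφ).2) hne)
      (fun h' => (h' (Finset.mem_filter.2 ⟨Finset.mem_univ _, hθ⟩)).elim)]
    have hd : ((deg (θ : D.O → ℂ) : ℕ) : Res M) ≠ 0 := fun e =>
      D.odd_card_O (((res_natCast_eq_zero_iff hM _).1 e).trans (IsIrrCharacter.deg_dvd θ.2))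
    refine mul_ne_zero ?_ hd
    rcases hpm χ h with e | e <;> simp [e]
  have hval : ∀ χ ∈ X, ∀ y : D.O, (χ : G → ℂ) (D.t * y) = (D.mu χ θ : ℂ) * (θ : D.O → ℂ) y := by
    intro χ hχ y
    rw [D.apply_t_mul, Finset.sum_eq_single θ (fun φ _ hne => ?_) fun h => absurd (Finset.mem_univ _) h]
    by_cases hφ0 : D.mu χ φ = 0
    · rw [hφ0, Int.cast_zero, zero_mul]
    · exact absurd (hsingle χ ((hmemX χ).1 hχ) φ hφ0 (D.inv_of_odd hM (hodd χ hχ) hφ0)) hne
  refine ⟨X, fun χ => D.mu χ θ, hcard, fun χ hχ => hpm χ ((hmemX χ).1 hχ), hval, fun χ hχ => ?_, ?_, ?_⟩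
  · have h := D.mu_spec χ θ
    rw [not_not.1 (mt (hmemX χ).2 hχ), Int.cast_zero, classInner_def, mul_eq_zero] at h
    exact h.resolve_left (inv_ne_zero (Nat.cast_ne_zero.2 Nat.card_pos.ne'))
  · rw [← D.sum_mu_deg θ]
    refine Finset.sum_subset (Finset.subset_univ _) fun χ _ hχ => ?_
    show D.mu χ θ * _ = 0
    rw [not_not.1 (mt (hmemX χ).2 hχ), zero_mul]
  · obtain ⟨ξ, hξ⟩ := D.exists_over_O θ
    have hid := D.sum_sq_mu θ ξ (D.exists_ext θ hθ ξ hξ).1 (D.ext_u_sq hM θ hθ hψ ξ hξ)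
    rw [← Finset.sum_subset (Finset.subset_univ X) fun χ _ hχ => by
      rw [not_not.1 (mt (hmemX χ).2 hχ), Int.cast_zero, mul_zero, zero_div]] at hid
    rw [Finset.sum_congr rfl (g := fun χ : IrrCharacter G =>
      (deg (θ : D.O → ℂ) : ℂ) ^ 2 * ((D.mu χ θ : ℂ) / (deg (χ : G → ℂ) : ℂ))) fun χ hχ => ?_,
      ← Finset.mul_sum] at hid
    · have hd : (deg (θ : D.O → ℂ) : ℂ) ≠ 0 := Nat.cast_ne_zero.2 (deg_irr_pos θ).ne'
      refine mul_left_cancel₀ (pow_ne_zero 2 hd) (hid.trans ?_)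
      field_simp
    · have h1 := hval χ hχ 1
      rw [OneMemClass.coe_one, mul_one, irr_apply_one_eq_deg] at h1
      have hsq : (D.mu χ θ : ℂ) * (D.mu χ θ : ℂ) = 1 := by
        rcases hpm χ ((hmemX χ).1 hχ) with e | e <;> simp [e]
      rw [h1, irr_apply_one_eq_deg]
      linear_combination ((deg (θ : D.O → ℂ) : ℂ) ^ 2 * (D.mu χ θ : ℂ) / (deg (χ : G → ℂ) : ℂ)) * hsq

/-- The cube of `σ` fixes every linear character of `W`. -/
theorem lin_cube (ψ : ↥D.W →* ℂˣ) (v : D.W) : ψ (D.cσ (D.cσ (D.cσ v))) = ψ v := by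
  have h3 : D.σ ^ 3 * D.t * (D.σ ^ 3)⁻¹ = D.t := by
    rw [show D.σ ^ 3 = D.σ * D.σ ^ 2 from pow_succ' D.σ 2, show D.σ * D.σ ^ 2 * D.t * (D.σ * D.σ ^ 2)⁻¹ =
      D.σ * (D.σ ^ 2 * D.t * (D.σ ^ 2)⁻¹) * D.σ⁻¹ by group, D.σ2t,
      show D.σ * (D.t * D.u) * D.σ⁻¹ = D.σ * D.t * D.σ⁻¹ * (D.σ * D.u * D.σ⁻¹) by group, D.σt, D.σu,
      D.tu.eq, D.u_mul_u]
  obtain ⟨c, hc, q, hq, hcq⟩ := D.exists_of_fix (pow_mem D.σ_mem_NP 3) h3
  have h5 : D.cσ (D.cσ (D.cσ v)) = ⟨c, hc⟩ * v * ⟨c, hc⟩⁻¹ := by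
    apply Subtype.ext
    show D.σ * (D.σ * (D.σ * (v : G) * D.σ⁻¹) * D.σ⁻¹) * D.σ⁻¹ = c * (v : G) * c⁻¹
    have hqv : q * (v : G) * q⁻¹ = v := by rw [(D.commute_P_W hq v.2).eq, mul_inv_cancel_right]
    calc _ = D.σ ^ 3 * (v : G) * (D.σ ^ 3)⁻¹ := by simp [pow_succ, mul_assoc]
      _ = c * (q * (v : G) * q⁻¹) * c⁻¹ := by rw [hcq]; group
      _ = _ := by rw [hqv]
  rw [h5, map_mul, map_mul, map_inv, mul_comm (ψ ⟨c, hc⟩) (ψ v), mul_inv_cancel_right]

/-- Multiplicity on `W` is constant on `σ`-orbits. -/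
theorem sum_res_twist (χ : IrrCharacter G) (ψ : ↥D.W →* ℂˣ) :
    ∑ v : D.W, res M ((χ : G → ℂ) (v : G)) * res M (conj ((ψ.comp D.cσ) v : ℂ)) =
      ∑ v : D.W, res M ((χ : G → ℂ) (v : G)) * res M (conj (ψ v : ℂ)) := by
  refine Fintype.sum_bijective D.cσ (Finite.injective_iff_bijective.1 fun a b h => Subtype.ext (by
    simpa [cσ] using congrArg Subtype.val h)) _ _ fun v => ?_
  show _ = res M ((χ : G → ℂ) (D.σ * (v : G) * D.σ⁻¹)) * _
  rw [isClassFunction_irr χ]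
  rfl

/-- MOVE. -/
theorem move_four (hM : IsPModular 2 M) (θ : Fin 3 → (↥D.O →* ℂˣ))
    (hθ : ∀ i y, θ i (D.cu y) = θ i y) {ψ : ↥D.W →* ℂˣ}
    (hψ : ∀ (i : Fin 3) (v : D.W), θ i (D.ιW v) = ψ (D.cσ^[(i : ℕ)] v))
    (hmoved : ∃ v, ψ (D.cσ v) ≠ ψ v) :
    ∃ x : ℕ, Odd x ∧
      (x : ℂ) * (32 * (Nat.card D.O : ℂ) ^ 3 / ((Nat.card D.W : ℂ) ^ 2 * (Nat.card G : ℂ))) = 8 := by
  classical
  haveI : Fact (Nat.Prime 2) := ⟨Nat.prime_two⟩
  haveI := charP_res hM
  set Θ : Fin 3 → IrrCharacter D.O := fun i => ⟨fun y => (θ i y : ℂ), isIrrCharacter_linear (θ i)⟩ with hΘ'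
  set ψ' : Fin 3 → (↥D.W →* ℂˣ) := fun i => (θ i).comp D.ιW with hψ''
  have hΘ : ∀ i, D.Inv (Θ i : D.O → ℂ) := fun i y => congrArg Units.val (hθ i y)
  have hcorr : ∀ i, Glauberman.Corr 2 D.ιW (Θ i) (D.lin (ψ' i)) := fun i =>
    ⟨1, by rw [Nat.cast_one]; exact (classInner_irr_self (D.lin (ψ' i))), by norm_num⟩
  have hcomp : ∀ v, ψ' 1 v = ψ' 0 (D.cσ v) ∧ ψ' 2 v = ψ' 1 (D.cσ v) ∧ ψ' 0 v = ψ v :=
    fun v => ⟨(hψ 1 v).trans (hψ 0 (D.cσ v)).symm, (hψ 2 v).trans (hψ 1 (D.cσ v)).symm, hψ 0 v⟩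
  have hdist : ∀ i j : Fin 3, i ≠ j → Θ i ≠ Θ j := by
    intro i j hij he
    obtain ⟨v, hv⟩ := hmoved
    have h : ∀ w : D.W, ψ (D.cσ^[(i : ℕ)] w) = ψ (D.cσ^[(j : ℕ)] w) := fun w => by
      rw [← hψ, ← hψ]
      exact Units.ext (congrFun (congrArg Subtype.val he) (D.ιW w))
    have e01 : (∀ w : D.W, ψ (D.cσ w) = ψ w) → False := fun h => hv (h v)
    have e02 : (∀ w : D.W, ψ (D.cσ (D.cσ w)) = ψ w) → False := fun h => hv (by
      rw [← h (D.cσ v), D.lin_cube ψ v])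
    fin_cases i <;> fin_cases j <;> first
      | exact hij rfl
      | exact e01 fun w => h w
      | exact e01 fun w => (h w).symm
      | exact e02 fun w => h w
      | exact e02 fun w => (h w).symm
      | exact e01 fun w => by
          have h' := h (D.cσ (D.cσ w))
          simpa [D.lin_cube] using h'
      | exact e01 fun w => by
          have h' := h (D.cσ (D.cσ w))
          simpa [D.lin_cube] using h'.symm
  -- the supports coincide
  set X := Finset.univ.filter fun χ : IrrCharacter G => D.mu χ (Θ 0) ≠ 0 with hX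
  have hsupp : ∀ χ : IrrCharacter G, ∀ i, D.mu χ (Θ i) ≠ 0 ↔ χ ∈ X := by
    intro χ i
    have hcast : ∀ j, (D.mu χ (Θ j) : Res M) = (D.mu χ (Θ 0) : Res M) := by
      have hr : ∀ j, (D.mu χ (Θ j) : Res M) =
          ∑ v : D.W, res M ((χ : G → ℂ) (v : G)) * res M (conj (ψ' j v : ℂ)) :=
        fun j => D.res_mu hM χ (hΘ j) (hcorr j)
      have h1 : (D.mu χ (Θ 1) : Res M) = (D.mu χ (Θ 0) : Res M) := by
        rw [hr, hr, ← D.sum_res_twist χ (ψ' 0)]
        exact Finset.sum_congr rfl fun v _ => by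
          show _ = _ * res M (conj ((ψ' 0 (D.cσ v) : ℂˣ) : ℂ))
          rw [← (hcomp v).1]
      have h2 : (D.mu χ (Θ 2) : Res M) = (D.mu χ (Θ 1) : Res M) := by
        rw [hr, hr, ← D.sum_res_twist χ (ψ' 1)]
        exact Finset.sum_congr rfl fun v _ => by
          show _ = _ * res M (conj ((ψ' 1 (D.cσ v) : ℂˣ) : ℂ))
          rw [← (hcomp v).2.1]
      intro j
      fin_cases j
      · rfl
      · exact h1
      · exact h2.trans h1
    have hz : ∀ j, D.mu χ (Θ j) ≠ 0 ↔ (D.mu χ (Θ j) : Res M) ≠ 0 := fun j => by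
      refine ⟨fun h => ?_, fun h e => h (by rw [e, Int.cast_zero])⟩
      rcases (D.four_support _ (hΘ j)).2 χ h with e | e <;> simp [e]
    rw [hz, hcast, ← hz]
    simp [hX]
  have hcard : X.card = 4 := (D.four_support _ (hΘ 0)).1
  have hpm : ∀ i, ∀ χ ∈ X, D.mu χ (Θ i) = 1 ∨ D.mu χ (Θ i) = -1 := fun i χ hχ =>
    (D.four_support _ (hΘ i)).2 χ ((hsupp χ i).2 hχ)
  have hsum : ∀ (i : Fin 3) (f : IrrCharacter G → ℤ),
      ∑ χ ∈ X, D.mu χ (Θ i) * f χ = ∑ χ : IrrCharacter G, D.mu χ (Θ i) * f χ := fun i f =>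
    Finset.sum_subset (Finset.subset_univ X) fun χ _ hχ => by
      rw [not_not.1 (mt (hsupp χ i).1 hχ), zero_mul]
  have horth : ∀ i j, i ≠ j → ∑ χ ∈ X, D.mu χ (Θ i) * D.mu χ (Θ j) = 0 := fun i j hij => by
    rw [hsum, D.mu_orth _ _ (hΘ j), if_neg (hdist i j hij)]
  have hdeg : ∀ i, ∑ χ ∈ X, D.mu χ (Θ i) * (deg (χ : G → ℂ) : ℤ) = 0 := fun i => by
    rw [hsum, D.sum_mu_deg]
  obtain ⟨x₀, ε, hε, hx, hS⟩ := sign_rows X hcard (fun χ => D.mu χ (Θ 0)) (fun χ => D.mu χ (Θ 1))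
    (fun χ => D.mu χ (Θ 2)) (fun χ => (deg (χ : G → ℂ) : ℤ)) (hpm 0) (hpm 1) (hpm 2)
    (fun χ _ => Int.natCast_pos.2 (deg_irr_pos χ)) (horth 0 1 (by decide)) (horth 0 2 (by decide))
    (horth 1 2 (by decide)) (hdeg 0) (hdeg 1) (hdeg 2)
  -- the invariant characters at a member
  have hrange : ∀ χ ∈ X, ∀ φ : IrrCharacter D.O, D.Inv (φ : D.O → ℂ) → D.mu χ φ ≠ 0 → φ ∈ Finset.univ.image Θ := by
    intro χ hχ φ hφ hne
    obtain ⟨β, hβ, i, hi⟩ := D.corr_of_shared hM (hΘ 0) hφ ((hsupp χ 0).2 hχ) hne (hcorr 0)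
    have hj : ∃ j : Fin 3, ∀ v, ψ' 0 v = ψ' j (D.cσ^[(i : ℕ)] v) := by
      fin_cases i
      · exact ⟨0, fun v => rfl⟩
      · refine ⟨2, fun v => ?_⟩
        rw [hψ'']
        show θ 0 (D.ιW v) = θ 2 (D.ιW (D.cσ v))
        rw [hψ, hψ]
        exact (D.lin_cube ψ v).symm
      · refine ⟨1, fun v => ?_⟩
        rw [hψ'']
        show θ 0 (D.ιW v) = θ 1 (D.ιW (D.cσ (D.cσ v)))
        rw [hψ, hψ]
        exact (D.lin_cube ψ v).symm
    obtain ⟨j, hj⟩ := hj
    refine Finset.mem_image.2 ⟨j, Finset.mem_univ _, ?_⟩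
    refine (Glauberman.corr_injective D.actU_isPGroup D.odd_card_O D.actU_fixed (D.inv_actU hφ) (D.inv_actU (hΘ j))
      hβ ?_).symm
    convert hcorr j using 2
    refine Subtype.ext (funext fun w => ?_)
    have hinj : Function.Injective (D.cσ^[(i : ℕ)]) := Function.Injective.iterate (fun a b h => Subtype.ext (by
      simpa [cσ] using congrArg Subtype.val h)) _
    obtain ⟨v, rfl⟩ := (Finite.injective_iff_surjective.1 hinj) w
    rw [hi, hj]
    rfl
  have hΘinj : Function.Injective Θ := fun i j h => by_contra fun hij => hdist i j hij h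
  have hdeg1 : ∀ i, deg (Θ i : D.O → ℂ) = 1 := fun i => by
    apply Nat.cast_injective (R := ℂ)
    rw [← irr_apply_one_eq_deg]
    simp [hΘ']
  have hodd : ∀ χ ∈ X, ¬ 2 ∣ deg (χ : G → ℂ) := by
    intro χ hχ
    rw [← res_natCast_eq_zero_iff hM, D.res_deg hM χ, ← Finset.sum_subset
      (s₁ := Finset.univ.image Θ)
      (fun φ hφ => by
        obtain ⟨i, -, rfl⟩ := Finset.mem_image.1 hφ
        exact Finset.mem_filter.2 ⟨Finset.mem_univ _, hΘ i⟩)
      (fun φ hφ hn => by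
        rw [show D.mu χ φ = 0 from by_contra fun hne => hn (hrange χ hχ φ (Finset.mem_filter.1 hφ).2 hne),
          Int.cast_zero, zero_mul]),
      Finset.sum_image fun i _ j _ h => hΘinj h, Fin.sum_univ_three]
    simp only [hdeg1, Nat.cast_one, mul_one]
    rcases hpm 0 χ hχ with a | a <;> rcases hpm 1 χ hχ with b | b <;> rcases hpm 2 χ hχ with c | c <;>
      simp [a, b, c, CharTwo.add_self_eq_zero]
  obtain ⟨χ₀, hχ₀⟩ := Finset.card_pos.1 (by omega : 0 < X.card)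
  refine ⟨deg (χ₀ : G → ℂ), Nat.not_even_iff_odd.1 fun h => hodd χ₀ hχ₀ (even_iff_two_dvd.1 h), ?_⟩
  obtain ⟨ξ, hξ⟩ := D.exists_over_O (Θ 0)
  have hid := D.sum_sq_mu (Θ 0) ξ (D.exists_ext _ (hΘ 0) ξ hξ).1 (D.ext_u_sq hM _ (hΘ 0) (hcorr 0) ξ hξ)
  rw [hdeg1, Nat.cast_one, mul_one, ← Finset.sum_subset (Finset.subset_univ X) fun χ _ hχ => by
    rw [not_not.1 (mt (hsupp χ 0).1 hχ), Int.cast_zero, mul_zero, zero_div]] at hid
  have hterm : ∀ χ ∈ X, (χ : G → ℂ) D.t ^ 2 * (D.mu χ (Θ 0) : ℂ) / (χ : G → ℂ) 1 =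
      (((D.mu χ (Θ 0) + D.mu χ (Θ 1) + D.mu χ (Θ 2)) ^ 2 * D.mu χ (Θ 0) : ℤ) : ℂ) /
        (deg (χ₀ : G → ℂ) : ℂ) := by
    intro χ hχ
    have hdd : deg (χ : G → ℂ) = deg (χ₀ : G → ℂ) := by exact_mod_cast (hx χ hχ).trans (hx χ₀ hχ₀).symm
    have h1 : (χ : G → ℂ) D.t =
        (D.mu χ (Θ 0) : ℂ) + (D.mu χ (Θ 1) : ℂ) + (D.mu χ (Θ 2) : ℂ) := by
      have h := D.apply_t_mul χ 1
      rw [OneMemClass.coe_one, mul_one, ← Finset.sum_subset (Finset.subset_univ (Finset.univ.image Θ))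
        (fun φ _ hn => by
          by_cases hne : D.mu χ φ = 0
          · rw [hne, Int.cast_zero, zero_mul]
          · exact absurd (hrange χ hχ φ (D.inv_of_odd hM (hodd χ hχ) hne) hne) hn),
        Finset.sum_image fun i _ j _ h => hΘinj h, Fin.sum_univ_three] at h
      simpa [irr_apply_one_eq_deg, hdeg1] using h
    rw [h1, irr_apply_one_eq_deg, hdd]
    push_cast
    ring
  rw [Finset.sum_congr rfl hterm, ← Finset.sum_div, ← Int.cast_sum, hS] at hid
  have hd0 : (deg (χ₀ : G → ℂ) : ℂ) ≠ 0 := Nat.cast_ne_zero.2 (deg_irr_pos χ₀).ne'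
  have hid' : (deg (χ₀ : G → ℂ) : ℂ) *
      (32 * (Nat.card D.O : ℂ) ^ 3 / ((Nat.card D.W : ℂ) ^ 2 * (Nat.card G : ℂ))) = ((8 * ε : ℤ) : ℂ) := by
    rw [← hid, mul_div_cancel₀ _ hd0]
  rw [hid']
  rcases hε with rfl | rfl
  · norm_num
  · exfalso
    have h3 : ((deg (χ₀ : G → ℂ) * 32 * Nat.card D.O ^ 3 : ℕ) : ℂ) =
        ((-8 * (Nat.card D.W ^ 2 * Nat.card G : ℕ) : ℤ) : ℂ) := by
      rw [← mul_div_assoc, div_eq_iff (by
        exact mul_ne_zero (pow_ne_zero 2 (Nat.cast_ne_zero.2 Nat.card_pos.ne'))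
          (Nat.cast_ne_zero.2 Nat.card_pos.ne'))] at hid'
      push_cast at hid' ⊢
      linear_combination hid'
    have h4 : ((deg (χ₀ : G → ℂ) * 32 * Nat.card D.O ^ 3 : ℕ) : ℤ) =
        -8 * (Nat.card D.W ^ 2 * Nat.card G : ℕ) := by exact_mod_cast h3
    have h5 : 0 < Nat.card D.W ^ 2 * Nat.card G := Nat.mul_pos (pow_pos Nat.card_pos 2) Nat.card_pos
    omega

end Data

end Cfsg.Lib.GW.Chr
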