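import Cfsg.Agent.FourGroupGW.CharSpec
import Cfsg.Agent.FourGroupGW.Basic
import Cfsg.Agent.FourGroupGW.Chars.Fix

/-!
# Four-group blocks: the two statements for a frame
-/

set_option autoImplicit false
set_option linter.unusedSectionVars false
set_option linter.style.haveILetI false

namespace Cfsg.Lib.GW

open Cfsg Cfsg.Lib.Chars Cfsg.Lib.Blocks
open scoped ComplexConjugate

universe u

variable {G : Type u} [Group G] [Finite G]

namespace Frame

variable (F : Frame G)

/-- The character data of a frame. -/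
noncomputable def chrData (hm : Minimal G) : Chr.Data G where
  t := F.t
  u := F.u
  σ := F.σ
  O := F.O
  W := F.W
  P := F.sylowU hm
  t2 := F.t_sq
  t1 := F.t_ne_one
  u2 := F.u_sq
  u1 := F.u_ne_one
  tneu := F.t_ne_u
  tu := F.comm
  memP q := by rw [F.coe_sylowU hm]; exact F.mem_U
  σt := F.σ_t
  σu := F.σ_u
  memO y := by
    rw [F.mem_O hm, ← Nat.not_even_iff_odd, even_iff_two_dvd]
    exact and_congr_left' ⟨fun h => h.symm, fun h => h.symm⟩
  memW y := by
    rw [F.mem_W]
    exact and_congr_right' ⟨fun h => h.symm, fun h => h.symm⟩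

theorem F0_cast : (F.F0 : ℂ) =
    32 * (Nat.card F.O : ℂ) ^ 3 / ((Nat.card F.W : ℂ) ^ 2 * (Nat.card G : ℂ)) := by
  simp [Frame.F0]

theorem fixSpec (hm : Minimal G) : F.FixSpec := by
  classical
  intro θ ψ hθ hψ hn
  obtain ⟨n, hn, hsum⟩ := hn
  letI := Fintype.ofFinite G
  letI iO : Fintype F.O := Fintype.ofFinite _
  letI iW : Fintype F.W := Fintype.ofFinite _
  let D := F.chrData hm
  letI : Fintype D.O := iO
  letI : Fintype D.W := iW
  letI : Fintype D.C := Fintype.ofFinite _
  obtain ⟨M, hM⟩ := exists_isPModular Nat.prime_two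
  have hcorr : Glauberman.Corr 2 D.ιW θ (D.lin ψ) := by
    refine ⟨n, ?_, fun h => Nat.not_even_iff_odd.2 hn (even_iff_two_dvd.2 h)⟩
    rw [finsum_eq_sum_of_fintype] at hsum
    rw [classInner_def]
    refine (inv_mul_eq_iff_eq_mul₀ (Nat.cast_ne_zero.2 Nat.card_pos.ne')).2 (Eq.trans ?_ (mul_comm _ _))
    exact hsum
  obtain ⟨X, d, hX, hd, hval, hout, hdeg, hF⟩ := D.fix_four hM θ (fun y => hθ y _ rfl) hcorr
    fun v => hψ v _ rfl
  refine ⟨X, d, hX, hd, hval, fun χ hχ => ?_, hdeg, ?_⟩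
  · rw [finsum_eq_sum_of_fintype]
    exact hout χ hχ
  · apply Rat.cast_injective (α := ℂ)
    push_cast
    rw [F.F0_cast, div_div]
    exact hF

theorem moveSpec (hm : Minimal G) : F.MoveSpec := by
  classical
  intro hlift ψ a b hab hne
  letI := Fintype.ofFinite G
  letI iO : Fintype F.O := Fintype.ofFinite _
  letI iW : Fintype F.W := Fintype.ofFinite _
  let D := F.chrData hm
  letI : Fintype D.O := iO
  letI : Fintype D.W := iW
  letI : Fintype D.C := Fintype.ofFinite _
  obtain ⟨M, hM⟩ := exists_isPModular Nat.prime_two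
  choose lift hlift_u hlift_W using hlift
  let cσi : Fin 3 → (↥D.W →* ↥D.W) := fun i =>
    { toFun := D.cσ^[(i : ℕ)]
      map_one' := iterate_map_one D.cσ i
      map_mul' := fun a b => iterate_map_mul D.cσ i a b }
  let ψi : Fin 3 → (↥F.W →* ℂˣ) := fun i => (show ↥D.W →* ℂˣ from ψ).comp (cσi i)
  have hb : D.cσ a = b := Subtype.ext hab
  obtain ⟨x, hx, h⟩ := D.move_four hM (fun i => lift (ψi i)) (fun i y => hlift_u (ψi i) y _ rfl)
    (fun i v => hlift_W (ψi i) v) ⟨a, by rw [hb]; exact hne⟩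
  refine ⟨x, hx, Rat.cast_injective (α := ℂ) ?_⟩
  push_cast
  rw [F.F0_cast]
  exact h

end Frame

end Cfsg.Lib.GW
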