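import Cfsg.Agent.FourGroupGW.Chars.Data

/-!
# The coefficients of a character on the coset `tO`

`mu χ θ` is the multiplicity of `θ` in `y ↦ χ (t y)` on `O`.  For a `u`-invariant `θ` the squares sum to four and the
products with the degrees sum to zero, so four characters have coefficient `±1` and the others zero.
-/

set_option autoImplicit false
set_option linter.unusedSectionVars false
set_option linter.style.haveILetI false

namespace Cfsg.Lib.GW.Chr

open Cfsg Cfsg.Lib.Chars Cfsg.Lib.Blocks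
open scoped ComplexConjugate

universe u

variable {G : Type u} [Group G] [Fintype G]

/-- The translate of a character by a central involution of a subgroup, restricted to that subgroup. -/
theorem exists_translate (K : Subgroup G) [Fintype K] {z : G} (hzK : z ∈ K) (hz2 : z * z = 1)
    (hzc : ∀ w ∈ K, Commute z w) {χ : G → ℂ} (hχ : IsCharacter G χ) :
    ∃ c : IrrCharacter K → ℤ, ∀ w : K, χ (z * w) = ∑ η, (c η : ℂ) * (η : K → ℂ) w := by
  classical
  have hc : (⟨z, hzK⟩ : K) ∈ Subgroup.center K :=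
    Subgroup.mem_center_iff.2 fun w => Subtype.ext (hzc w w.2).eq.symm
  choose s hs hsz hsc using fun η : IrrCharacter K => apply_central_sign η hc (Subtype.ext hz2)
  choose m hm using fun η : IrrCharacter K => IsCharacter.exists_mult (IsCharacter.restrict hχ K) η.2
  refine ⟨fun η => (m η : ℤ) * s η, fun w => ?_⟩
  have h := classFunction_expand_apply (isClassFunction_isChar (IsCharacter.restrict hχ K)) (⟨z, hzK⟩ * w)
  refine h.trans (Finset.sum_congr rfl fun η _ => ?_)
  rw [hm η, hsc η w]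
  push_cast
  ring

/-- The coefficients of the translate on a smaller subgroup are integers. -/
theorem exists_int_inner (K : Subgroup G) [Fintype K] {z : G} (hzK : z ∈ K) (hz2 : z * z = 1)
    (hzc : ∀ w ∈ K, Commute z w) {χ : G → ℂ} (hχ : IsCharacter G χ) (L : Subgroup G) [Fintype L] (hLK : L ≤ K)
    (θ : IrrCharacter L) : ∃ n : ℤ, classInner (fun y : L => χ (z * y)) (θ : L → ℂ) = n := by
  classical
  obtain ⟨c, hc⟩ := exists_translate K hzK hz2 hzc hχ
  choose e he using fun η : IrrCharacter K =>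
    IsCharacter.exists_mult (IsCharacter.comp_hom (isCharacter_of_irr η.2) (Subgroup.inclusion hLK)) θ.2
  refine ⟨∑ η, c η * (e η : ℤ), ?_⟩
  rw [show (fun y : L => χ (z * y)) =
      ∑ η : IrrCharacter K, (c η : ℂ) • (fun y : L => (η : K → ℂ) (Subgroup.inclusion hLK y)) from
    funext fun y => by
      rw [Finset.sum_apply]
      exact hc (Subgroup.inclusion hLK y), classInner_sum_left]
  push_cast
  exact Finset.sum_congr rfl fun η _ => by rw [classInner_smul_left, he η]

variable {M : Ideal AlgInt}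

theorem apply_mem_place (hM : IsPModular 2 M) {H : Type u} [Group H] [Finite H] {χ : H → ℂ}
    (hχ : IsCharacter H χ) (g : H) : χ g ∈ place M :=
  isIntegral_mem_place hM (IsCharacter.isIntegral hχ g)

/-- Modulo two a character does not see a commuting involution. -/
theorem res_translate (hM : IsPModular 2 M) {χ : G → ℂ} (hχ : IsCharacter G χ) {z y : G} (hz2 : z * z = 1)
    (hc : Commute z y) (hy : ¬ 2 ∣ orderOf y) : res M (χ (z * y)) = res M (χ y) := by
  haveI : Fact (Nat.Prime 2) := ⟨Nat.prime_two⟩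
  refine (res_eq_iff (apply_mem_place hM hχ _) (apply_mem_place hM hχ _)).2
    (small_apply_mul_sub hM hχ hc ?_ hy)
  by_cases hz : z = 1
  · exact ⟨0, by rw [hz, orderOf_one, pow_zero]⟩
  · exact ⟨1, by rw [pow_one]; exact orderOf_eq_prime (by rw [pow_two, hz2]) hz⟩

namespace Data

variable (D : Data G)

theorem exists_int_mu [Fintype D.O] (χ : IrrCharacter G) (θ : IrrCharacter D.O) :
    ∃ n : ℤ, classInner (fun y : D.O => (χ : G → ℂ) (D.t * y)) (θ : D.O → ℂ) = n := by
  letI := Fintype.ofFinite D.C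
  exact exists_int_inner D.C D.t_mem_C D.t2 (fun w hw => D.mem_C.1 hw) (isCharacter_of_irr χ.2) D.O D.O_le_C θ

/-- The multiplicity of `θ` in `y ↦ χ (t y)`. -/
noncomputable def mu [Fintype D.O] (χ : IrrCharacter G) (θ : IrrCharacter D.O) : ℤ :=
  Classical.choose (D.exists_int_mu χ θ)

variable [Fintype D.O]

theorem mu_spec (χ : IrrCharacter G) (θ : IrrCharacter D.O) :
    classInner (fun y : D.O => (χ : G → ℂ) (D.t * y)) (θ : D.O → ℂ) = (D.mu χ θ : ℂ) :=
  Classical.choose_spec (D.exists_int_mu χ θ)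

theorem isClassFunction_translate_O (χ : IrrCharacter G) :
    IsClassFunction D.O (fun y : D.O => (χ : G → ℂ) (D.t * y)) := fun a h => by
  show (χ : G → ℂ) (D.t * ((h : G) * (a : G) * (h : G)⁻¹)) = _
  rw [show D.t * ((h : G) * (a : G) * (h : G)⁻¹) = (h : G) * (D.t * (a : G)) * (h : G)⁻¹ by
    rw [← mul_assoc, ← mul_assoc, (D.commute_t h.2).eq, mul_assoc (h : G) D.t]]
  exact isClassFunction_irr χ _ _

theorem apply_t_mul (χ : IrrCharacter G) (y : D.O) :
    (χ : G → ℂ) (D.t * y) = ∑ θ : IrrCharacter D.O, (D.mu χ θ : ℂ) * (θ : D.O → ℂ) y := by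
  refine (classFunction_expand_apply (D.isClassFunction_translate_O χ) y).trans
    (Finset.sum_congr rfl fun θ _ => ?_)
  rw [D.mu_spec]

/-- Elements of the coset `tO` conjugate in `G` are conjugate only by elements of `C(t)`. -/
theorem commute_of_conj {x : G} {y y' : D.O} (h : x * (D.t * y) * x⁻¹ = D.t * y') :
    Commute D.t x ∧ x * y * x⁻¹ = (y' : G) := by
  have h1 : IsPPart 2 (D.t * (y' : G)) (x * D.t * x⁻¹) := by
    refine ⟨x * (y : G) * x⁻¹, ?_, ?_, ⟨1, ?_⟩, ?_⟩
    · rw [← h]; group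
    · exact (D.commute_t y.2).map (MulAut.conj x).toMonoidHom
    · rw [show x * D.t * x⁻¹ = MulAut.conj x D.t from rfl, MulEquiv.orderOf_eq, D.t_order, pow_one]
    · rw [show x * (y : G) * x⁻¹ = MulAut.conj x (y : G) from rfl, MulEquiv.orderOf_eq]
      exact D.odd_O y.2
  have h2 : IsPPart 2 (D.t * (y' : G)) D.t :=
    ⟨(y' : G), rfl, D.commute_t y'.2, ⟨1, by rw [D.t_order, pow_one]⟩, D.odd_O y'.2⟩
  have h3 := IsPPart.eq Nat.prime_two h1 h2
  have hc : Commute D.t x := (mul_inv_eq_iff_eq_mul.1 h3).symm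
  refine ⟨hc, mul_left_cancel (a := D.t) ?_⟩
  rw [← h, ← mul_assoc, ← mul_assoc, hc.eq, mul_assoc x D.t]

/-- The column product on the coset is a count of conjugating elements. -/
theorem sum_columns (y y' : D.O) [DecidablePred fun c : G => c ∈ D.C ∧ c * y * c⁻¹ = (y' : G)] :
    ∑ χ : IrrCharacter G, (χ : G → ℂ) (D.t * y) * conj ((χ : G → ℂ) (D.t * y')) =
      ((Finset.univ.filter fun c : G => c ∈ D.C ∧ c * y * c⁻¹ = (y' : G)).card : ℂ) := by
  classical
  have hiff : ∀ c : G, (c ∈ D.C ∧ c * y * c⁻¹ = (y' : G)) ↔ c * (D.t * y) * c⁻¹ = D.t * y' := by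
    intro c
    constructor
    · rintro ⟨hc, h⟩
      rw [← mul_assoc, ← (D.mem_C.1 hc).eq, mul_assoc D.t, mul_assoc D.t, h]
    · intro h
      obtain ⟨hc, h'⟩ := D.commute_of_conj h
      exact ⟨D.mem_C.2 hc, h'⟩
  rw [second_orthogonality]
  split_ifs with hconj
  · obtain ⟨g, hg⟩ := isConj_iff.1 hconj
    congr 1
    rw [← Fintype.card_subtype, ← Nat.card_eq_fintype_card]
    refine Nat.card_congr
      { toFun := fun z => ⟨g * z.1, (hiff _).2 ?_⟩
        invFun := fun c => ⟨g⁻¹ * c.1, Subgroup.mem_centralizer_singleton_iff.2 ?_⟩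
        left_inv := fun z => Subtype.ext (inv_mul_cancel_left _ _)
        right_inv := fun c => Subtype.ext (mul_inv_cancel_left _ _) }
    · have hz := Subgroup.mem_centralizer_singleton_iff.1 z.2
      calc g * z.1 * (D.t * y) * (g * z.1)⁻¹ = g * (z.1 * (D.t * y) * z.1⁻¹) * g⁻¹ := by group
        _ = D.t * y' := by rw [hz, mul_inv_cancel_right, hg]
    · have hc := (hiff c.1).1 c.2
      apply mul_inv_eq_iff_eq_mul.1
      calc g⁻¹ * c.1 * (D.t * y) * (g⁻¹ * c.1)⁻¹ = g⁻¹ * (c.1 * (D.t * y) * c.1⁻¹) * g := by group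
        _ = D.t * y := by rw [hc, ← hg]; group
  · rw [Finset.filter_false_of_mem, Finset.card_empty, Nat.cast_zero]
    exact fun c _ hc => hconj (isConj_iff.2 ⟨c, (hiff c).1 hc⟩)

/-- An invariant character does not see conjugation by `C(t)`. -/
theorem inv_conj {θ : IrrCharacter D.O} (hθ : D.Inv (θ : D.O → ℂ)) {c : G} (hc : Commute D.t c) (y : D.O) :
    (θ : D.O → ℂ) ⟨c * y * c⁻¹, D.conj_mem_O hc y.2⟩ = (θ : D.O → ℂ) y := by
  obtain ⟨q, hq, ho⟩ := D.exists_mul_mem hc
  set o : D.O := ⟨c * q, ho⟩ with ho'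
  have hqq : q * q = 1 := D.exp_P q hq
  have hqi : q⁻¹ = q := inv_eq_of_mul_eq_one_right hqq
  have hqc : Commute D.t q := commute_of_sq_eq_one D.exp_P D.tP hq
  have hq' : (θ : D.O → ℂ) ⟨q * y * q⁻¹, D.conj_mem_O hqc y.2⟩ = (θ : D.O → ℂ) y := by
    have hid : ∀ {s : G} (hs : Commute D.t s), s * (y : G) * s⁻¹ = y →
        (θ : D.O → ℂ) ⟨s * y * s⁻¹, D.conj_mem_O hs y.2⟩ = (θ : D.O → ℂ) y :=
      fun hs e => congrArg _ (Subtype.ext e)
    have hcy := D.commute_t y.2
    rcases (D.memP q).1 hq with rfl | rfl | rfl | rfl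
    · exact hid hqc (by simp)
    · exact hid hqc (by rw [hcy.eq, mul_inv_cancel_right])
    · exact hθ y
    · refine (congrArg _ (Subtype.ext ?_)).trans (hθ y)
      show D.t * D.u * (y : G) * (D.t * D.u)⁻¹ = D.u * (y : G) * D.u⁻¹
      rw [D.tu.eq, mul_inv_rev, mul_assoc D.u D.t, hcy.eq]
      group
  rw [← hq', ← isClassFunction_irr θ ⟨q * y * q⁻¹, D.conj_mem_O hqc y.2⟩ o]
  refine congrArg _ (Subtype.ext ?_)
  show c * (y : G) * c⁻¹ = c * q * (q * (y : G) * q⁻¹) * (c * q)⁻¹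
  rw [mul_inv_rev, hqi]
  calc c * (y : G) * c⁻¹ = c * (q * q) * (y : G) * (q * q) * c⁻¹ := by rw [hqq, mul_one, mul_one]
    _ = _ := by group

/-- Orthogonality of the coefficients. -/
theorem mu_orth (θ θ' : IrrCharacter D.O) (hθ' : D.Inv (θ' : D.O → ℂ)) [DecidableEq (IrrCharacter D.O)] :
    ∑ χ : IrrCharacter G, D.mu χ θ * D.mu χ θ' = if θ = θ' then 4 else 0 := by
  classical
  apply Int.cast_injective (α := ℂ)
  push_cast
  simp only [← D.mu_spec]
  set N : ℂ := (Nat.card D.O : ℂ) with hN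
  have hN0 : N ≠ 0 := Nat.cast_ne_zero.2 Nat.card_pos.ne'
  have hreal : ∀ χ : IrrCharacter G, classInner (fun y : D.O => (χ : G → ℂ) (D.t * y)) (θ' : D.O → ℂ) =
      conj (classInner (fun y : D.O => (χ : G → ℂ) (D.t * y)) (θ' : D.O → ℂ)) := fun χ => by
    rw [D.mu_spec, map_intCast]
  have key : ∑ χ : IrrCharacter G, classInner (fun y : D.O => (χ : G → ℂ) (D.t * y)) (θ : D.O → ℂ) *
      classInner (fun y : D.O => (χ : G → ℂ) (D.t * y)) (θ' : D.O → ℂ) =
      N⁻¹ * (N⁻¹ * ∑ y : D.O, conj ((θ : D.O → ℂ) y) * ∑ y' : D.O,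
        (((Finset.univ.filter fun c : G => c ∈ D.C ∧ c * y * c⁻¹ = (y' : G)).card : ℂ) *
          (θ' : D.O → ℂ) y')) := by
    rw [Finset.sum_congr rfl (g := fun y : D.O => conj ((θ : D.O → ℂ) y) * ∑ y' : D.O,
      (∑ χ : IrrCharacter G, (χ : G → ℂ) (D.t * y) * conj ((χ : G → ℂ) (D.t * y'))) * (θ' : D.O → ℂ) y')
      fun y _ => by simp only [D.sum_columns]]
    simp only [Finset.mul_sum, Finset.sum_mul]
    rw [Finset.sum_congr rfl fun (y : D.O) _ => Finset.sum_comm]
    rw [Finset.sum_comm]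
    refine Finset.sum_congr rfl fun χ _ => ?_
    rw [hreal χ]
    simp only [classInner_def, map_mul, map_sum, map_inv₀, Complex.conj_natCast, Complex.conj_conj,
      Finset.mul_sum, Finset.sum_mul, hN]
    rw [Finset.sum_comm]
    exact Finset.sum_congr rfl fun y _ => Finset.sum_congr rfl fun y' _ => by ring
  rw [key]
  have hinner : ∀ y : D.O, ∑ y' : D.O,
      (((Finset.univ.filter fun c : G => c ∈ D.C ∧ c * y * c⁻¹ = (y' : G)).card : ℂ) *
        (θ' : D.O → ℂ) y') = (Nat.card D.C : ℂ) * (θ' : D.O → ℂ) y := by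
    intro y
    rw [Finset.sum_congr rfl (g := fun y' : D.O => ∑ _c ∈ (Finset.univ.filter (· ∈ D.C)).filter
        (fun c : G => c * y * c⁻¹ = (y' : G)), (θ' : D.O → ℂ) y) ?_]
    · have hfib := Finset.sum_fiberwise_of_maps_to (s := Finset.univ.filter (· ∈ D.C))
        (t := Finset.univ.map ⟨Subtype.val, Subtype.val_injective⟩) (g := fun c : G => c * y * c⁻¹)
        (fun c hc => Finset.mem_map.2 ⟨⟨_, D.conj_mem_O (D.mem_C.1 (Finset.mem_filter.1 hc).2) y.2⟩,
          Finset.mem_univ _, rfl⟩) (fun _ => (θ' : D.O → ℂ) y)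
      rw [Finset.sum_map] at hfib
      refine hfib.trans ?_
      rw [Finset.sum_const, nsmul_eq_mul, Nat.card_eq_fintype_card, Fintype.card_subtype]
    · intro y' _
      rw [Finset.sum_const, nsmul_eq_mul, Finset.filter_filter]
      by_cases h0 : (Finset.univ.filter fun c : G => c ∈ D.C ∧ c * y * c⁻¹ = (y' : G)) = ∅
      · rw [h0, Finset.card_empty, Nat.cast_zero, zero_mul, zero_mul]
      · obtain ⟨c, hc⟩ := Finset.nonempty_iff_ne_empty.2 h0
        obtain ⟨hcC, hcy⟩ := (Finset.mem_filter.1 hc).2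
        rw [show (θ' : D.O → ℂ) y' = (θ' : D.O → ℂ) y by
          rw [← D.inv_conj hθ' (D.mem_C.1 hcC) y]; exact congrArg _ (Subtype.ext hcy.symm)]
  simp only [hinner]
  have h1 : classInner (θ' : D.O → ℂ) (θ : D.O → ℂ) = if θ' = θ then 1 else 0 := classInner_irrCharacter θ' θ
  rw [classInner_def, ← hN] at h1
  rw [Finset.sum_congr rfl (g := fun y : D.O => (Nat.card D.C : ℂ) * ((θ' : D.O → ℂ) y * conj ((θ : D.O → ℂ) y)))
    fun y _ => by ring, ← Finset.mul_sum, D.card_C, Nat.cast_mul, ← hN]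
  rw [show N⁻¹ * (N⁻¹ * ((4 : ℕ) * N * ∑ y : D.O, (θ' : D.O → ℂ) y * conj ((θ : D.O → ℂ) y))) =
    4 * (N⁻¹ * ∑ y : D.O, (θ' : D.O → ℂ) y * conj ((θ : D.O → ℂ) y)) * (N⁻¹ * N) by push_cast; ring,
    h1, inv_mul_cancel₀ hN0, mul_one]
  by_cases e : θ = θ'
  · simp [e]
  · simp [e, Ne.symm e]

/-- The coefficients are orthogonal to the degrees. -/
theorem sum_mu_deg (θ : IrrCharacter D.O) :
    ∑ χ : IrrCharacter G, D.mu χ θ * (deg (χ : G → ℂ) : ℤ) = 0 := by
  classical
  apply Int.cast_injective (α := ℂ)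
  push_cast
  simp only [← D.mu_spec, classInner_def, Finset.mul_sum, Finset.sum_mul]
  rw [Finset.sum_comm]
  refine Finset.sum_eq_zero fun y _ => ?_
  have h := second_orthogonality (D.t * (y : G)) 1
  rw [if_neg ?_] at h
  · rw [Finset.sum_congr rfl (g := fun χ : IrrCharacter G => ((Nat.card D.O : ℂ)⁻¹ * conj ((θ : D.O → ℂ) y)) *
      ((χ : G → ℂ) (D.t * y) * conj ((χ : G → ℂ) 1))) fun χ _ => by
        rw [irr_apply_one_eq_deg, Complex.conj_natCast]; ring, ← Finset.mul_sum, h, mul_zero]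
  · intro hc
    obtain ⟨g, hg⟩ := isConj_iff.1 hc
    have hty : D.t * (y : G) = 1 := by
      have := congrArg (fun z => g⁻¹ * z * g) hg
      simpa [mul_assoc] using this
    have h2 : orderOf (y : G) = 2 := by rw [eq_inv_of_mul_eq_one_right hty, orderOf_inv, D.t_order]
    exact D.odd_O y.2 (dvd_of_eq h2.symm)

/-- Exactly four characters carry an invariant `θ`, each with coefficient `±1`. -/
theorem four_support (θ : IrrCharacter D.O) (hθ : D.Inv (θ : D.O → ℂ)) :
    (Finset.univ.filter fun χ : IrrCharacter G => D.mu χ θ ≠ 0).card = 4 ∧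
      ∀ χ : IrrCharacter G, D.mu χ θ ≠ 0 → D.mu χ θ = 1 ∨ D.mu χ θ = -1 := by
  classical
  have h4 := D.mu_orth θ θ hθ
  rw [if_pos rfl] at h4
  have h0 := D.sum_mu_deg θ
  have hle : ∀ χ : IrrCharacter G, D.mu χ θ * D.mu χ θ ≤ 1 := by
    intro χ
    by_contra hgt
    have hrest : D.mu χ θ * D.mu χ θ ≤ 4 :=
      h4 ▸ Finset.single_le_sum (f := fun φ => D.mu φ θ * D.mu φ θ) (fun φ _ => mul_self_nonneg _)
        (Finset.mem_univ χ)
    have h22 : D.mu χ θ * D.mu χ θ = 4 := by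
      have h1 : -2 ≤ D.mu χ θ := by nlinarith
      have h2 : D.mu χ θ ≤ 2 := by nlinarith
      interval_cases h : D.mu χ θ <;> omega
    have hz : ∀ φ, φ ≠ χ → D.mu φ θ = 0 := by
      intro φ hφ
      have hp := Finset.add_sum_erase Finset.univ (fun φ => D.mu φ θ * D.mu φ θ) (Finset.mem_univ χ)
      have hs := Finset.single_le_sum (f := fun φ => D.mu φ θ * D.mu φ θ) (fun ψ _ => mul_self_nonneg _)
        (Finset.mem_erase.2 ⟨hφ, Finset.mem_univ φ⟩)
      exact mul_self_eq_zero.1 (le_antisymm (by rw [h4] at hp; linarith) (mul_self_nonneg _))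
    rw [Finset.sum_eq_single χ (fun φ _ hφ => by rw [hz φ hφ, zero_mul])
      (fun h => absurd (Finset.mem_univ _) h)] at h0
    rcases mul_eq_zero.1 h0 with h | h
    · rw [h] at h22; norm_num at h22
    · exact (deg_irr_pos χ).ne' (by exact_mod_cast h)
  have hpm : ∀ χ : IrrCharacter G, D.mu χ θ ≠ 0 → D.mu χ θ = 1 ∨ D.mu χ θ = -1 := by
    intro χ hne
    have := hle χ
    have h1 : -1 ≤ D.mu χ θ := by nlinarith
    have h2 : D.mu χ θ ≤ 1 := by nlinarith
    omega
  refine ⟨?_, hpm⟩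
  rw [← Finset.sum_filter_add_sum_filter_not Finset.univ (fun χ => D.mu χ θ ≠ 0),
    Finset.sum_congr rfl (s₁ := Finset.univ.filter fun χ => D.mu χ θ ≠ 0) (g := fun _ => (1 : ℤ))
      (fun χ hχ => by rcases hpm χ (Finset.mem_filter.1 hχ).2 with e | e <;> rw [e] <;> norm_num),
    Finset.sum_eq_zero (s := Finset.univ.filter fun χ => ¬ D.mu χ θ ≠ 0)
      (fun χ hχ => by rw [not_not.1 (Finset.mem_filter.1 hχ).2, zero_mul]), Finset.sum_const, add_zero,
    nsmul_eq_mul, mul_one] at h4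
  exact_mod_cast h4

end Data

end Cfsg.Lib.GW.Chr
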