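import Cfsg.Agent.FourGroupGW.Chars.Orbit
import Cfsg.Agent.Blocks.KleinColumns

/-!
# Second main theorem on the coset `tO`

A coefficient `mu χ θ ≠ 0` puts the block of `χ` over a block of `C(t)` above `θ`.  Hence two invariant characters
with coefficients at one `χ` have correspondents in one `σ`-orbit, and an odd degree excludes moved characters.
-/

set_option autoImplicit false
set_option linter.unusedSectionVars false
set_option linter.style.haveILetI false

namespace Cfsg.Lib.GW.Chr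

open Cfsg Cfsg.Lib.Chars Cfsg.Lib.Blocks
open scoped ComplexConjugate

universe u

variable {G : Type u} [Group G] [Fintype G] {M : Ideal AlgInt}

namespace Data

variable (D : Data G) [Fintype D.O] [Fintype D.W] [Fintype D.C]

/-- `O` inside `C(t)`. -/
abbrev OC : Subgroup D.C := D.O.subgroupOf D.C

instance : (OC D).Normal :=
  ⟨fun _ hn g => D.conj_mem_O (D.mem_C.1 g.2) hn⟩

/-- The restriction of a function on `C(t)` to `O`. -/
def resO (f : D.C → ℂ) : D.O → ℂ := fun y => f (Subgroup.inclusion D.O_le_C y)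

theorem classInner_resO [Fintype (OC D)] (f : D.C → ℂ) (θ : D.O → ℂ) :
    classInner (fun n : OC D => f n) (fun n : OC D => θ (Subgroup.subgroupOfEquivOfLe D.O_le_C n)) =
      classInner (D.resO f) θ :=
  classInner_comp_equiv (Subgroup.subgroupOfEquivOfLe D.O_le_C).toEquiv (D.resO f) θ

/-- A character of `O` carried to `O` inside `C(t)`. -/
noncomputable def toOC (θ : IrrCharacter D.O) : IrrCharacter (OC D) :=
  ⟨fun n => (θ : D.O → ℂ) (Subgroup.subgroupOfEquivOfLe D.O_le_C n),
    IsIrrCharacter.comp_surjective θ.2 (Subgroup.subgroupOfEquivOfLe D.O_le_C).toMonoidHom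
      (Subgroup.subgroupOfEquivOfLe D.O_le_C).surjective⟩

/-- An invariant character extends to `C(t)`, with values of square norm `|O|` on the coset of `u`. -/
theorem exists_ext (θ : IrrCharacter D.O) (hθ : D.Inv (θ : D.O → ℂ)) (ξ : IrrCharacter D.C)
    (hξ : classInner (D.resO (ξ : D.C → ℂ)) (θ : D.O → ℂ) ≠ 0) :
    D.resO (ξ : D.C → ℂ) = (θ : D.O → ℂ) ∧
      ∑ y : D.O, Complex.normSq ((ξ : D.C → ℂ) (⟨D.u, D.u_mem_C⟩ * Subgroup.inclusion D.O_le_C y)) =
        (Nat.card D.O : ℝ) := by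
  classical
  letI := Fintype.ofFinite (OC D)
  obtain ⟨e, he0, he⟩ := restrict_eq_mult_of_invariant (OC D) ξ.2 (D.toOC θ).2
    (fun g => funext fun n => D.inv_conj hθ (D.mem_C.1 g.2) (Subgroup.subgroupOfEquivOfLe D.O_le_C n))
    (by
      rw [show classInner (fun n : OC D => (ξ : D.C → ℂ) n) (D.toOC θ : OC D → ℂ) =
        classInner (D.resO (ξ : D.C → ℂ)) (θ : D.O → ℂ) from D.classInner_resO _ _]
      exact hξ)
  have hres : ∀ y : D.O, (ξ : D.C → ℂ) (Subgroup.inclusion D.O_le_C y) = (e : ℂ) * (θ : D.O → ℂ) y :=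
    fun y => congrFun he ((Subgroup.subgroupOfEquivOfLe D.O_le_C).symm y)
  set uC : D.C := ⟨D.u, D.u_mem_C⟩
  set tC : D.C := ⟨D.t, D.t_mem_C⟩
  set inc := Subgroup.inclusion D.O_le_C
  obtain ⟨s, hs, -, hst⟩ := apply_central_sign ξ (z := tC)
    (Subgroup.mem_center_iff.2 fun w => Subtype.ext (D.mem_C.1 w.2).eq.symm) (Subtype.ext D.t2)
  have hsn : Complex.normSq (s : ℂ) = 1 := by rcases hs with h | h <;> rw [h] <;> simp
  -- the four cosets
  let g : Fin 2 × Fin 2 × D.O → D.C := fun x => tC ^ (x.1 : ℕ) * (uC ^ (x.2.1 : ℕ) * inc x.2.2)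
  have hg : Function.Bijective g := by
    refine (Fintype.bijective_iff_injective_and_card g).2 ⟨?_, ?_⟩
    · rintro ⟨i, j, y⟩ ⟨i', j', y'⟩ h
      have h1 : D.t ^ (i : ℕ) * (D.u ^ (j : ℕ) * (y : G)) = D.t ^ (i' : ℕ) * (D.u ^ (j' : ℕ) * (y' : G)) :=
        congrArg Subtype.val h
      set a := D.t ^ (i : ℕ) * D.u ^ (j : ℕ) with ha
      set b := D.t ^ (i' : ℕ) * D.u ^ (j' : ℕ) with hb
      have haP : a ∈ (D.P : Subgroup G) := mul_mem (pow_mem D.tP _) (pow_mem D.uP _)
      have hbP : b ∈ (D.P : Subgroup G) := mul_mem (pow_mem D.tP _) (pow_mem D.uP _)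
      rw [← mul_assoc, ← mul_assoc, ← ha, ← hb] at h1
      have h2 : b⁻¹ * a = (y' : G) * (y : G)⁻¹ := by
        rw [eq_mul_inv_iff_mul_eq, mul_assoc, h1, inv_mul_cancel_left]
      have h3 : b⁻¹ * a = 1 := by
        by_contra hne
        refine D.odd_O (mul_mem y'.2 (inv_mem y.2)) ?_
        rw [← h2, orderOf_eq_prime (p := 2) (by rw [pow_two]; exact D.exp_P _ (mul_mem (inv_mem hbP) haP)) hne]
      have hab : a = b := (inv_mul_eq_one.1 h3).symm
      have hy : y = y' := Subtype.ext (by rw [hab] at h1; exact mul_left_cancel h1)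
      have hn := D.tu_ne_one
      have hn2 := D.tu_ne_t
      have hn3 : D.t * D.u ≠ D.u := fun e => D.t1 (mul_eq_right.1 e)
      subst hy
      have hij : i = i' ∧ j = j' := by
        rw [ha, hb] at hab
        fin_cases i <;> fin_cases j <;> fin_cases i' <;> fin_cases j' <;> first
          | exact ⟨rfl, rfl⟩
          | (exfalso
             simp only [show ((0 : Fin 2) : ℕ) = 0 from rfl, show ((1 : Fin 2) : ℕ) = 1 from rfl, pow_zero,
               pow_one, one_mul, mul_one] at hab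
             first
               | exact D.t1 hab
               | exact D.t1 hab.symm
               | exact D.u1 hab
               | exact D.u1 hab.symm
               | exact D.tneu hab
               | exact D.tneu hab.symm
               | exact hn hab
               | exact hn hab.symm
               | exact hn2 hab
               | exact hn2 hab.symm
               | exact hn3 hab
               | exact hn3 hab.symm)
      rw [hij.1, hij.2]
    · rw [Fintype.card_prod, Fintype.card_prod, Fintype.card_fin, ← Nat.card_eq_fintype_card,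
        ← Nat.card_eq_fintype_card, D.card_C]
      ring
  have h1 := classInner_irr_self ξ
  rw [classInner_def, inv_mul_eq_one₀ (Nat.cast_ne_zero.2 Nat.card_pos.ne')] at h1
  have h2 : ∑ c : D.C, Complex.normSq ((ξ : D.C → ℂ) c) = (Nat.card D.C : ℝ) := by
    apply Complex.ofReal_injective
    push_cast
    rw [h1]
    exact Finset.sum_congr rfl fun c _ => (Complex.mul_conj _).symm
  rw [← Fintype.sum_bijective g hg (fun x => Complex.normSq ((ξ : D.C → ℂ) (g x))) _ (fun _ => rfl),
    Fintype.sum_prod_type] at h2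
  simp only [Fin.sum_univ_two, Fintype.sum_prod_type, g, show ((0 : Fin 2) : ℕ) = 0 from rfl,
    show ((1 : Fin 2) : ℕ) = 1 from rfl, pow_zero, pow_one, one_mul, hst, hres, map_mul, hsn] at h2
  have hθ1 : ∑ y : D.O, Complex.normSq ((θ : D.O → ℂ) y) = (Nat.card D.O : ℝ) := by
    have := classInner_irr_self θ
    rw [classInner_def, inv_mul_eq_one₀ (Nat.cast_ne_zero.2 Nat.card_pos.ne')] at this
    apply Complex.ofReal_injective
    push_cast
    rw [this]
    exact Finset.sum_congr rfl fun c _ => (Complex.mul_conj _).symm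
  rw [← Finset.mul_sum, hθ1, D.card_C, Nat.cast_mul, Complex.normSq_natCast] at h2
  push_cast at h2
  set X : ℝ := ∑ y : D.O, Complex.normSq ((ξ : D.C → ℂ) (uC * inc y))
  have hX0 : 0 ≤ X := Finset.sum_nonneg fun _ _ => Complex.normSq_nonneg _
  have hO : (0 : ℝ) < Nat.card D.O := Nat.cast_pos.2 Nat.card_pos
  have he1 : e = 1 := by
    by_contra hne
    have h2e : (2 : ℝ) ≤ e := by exact_mod_cast (show 2 ≤ e by omega)
    nlinarith [mul_le_mul_of_nonneg_right (mul_le_mul h2e h2e (by norm_num) (by linarith)) hO.le]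
  subst he1
  refine ⟨funext fun y => by rw [resO, hres y, Nat.cast_one, one_mul], ?_⟩
  push_cast at h2
  linarith

/-- A nonzero coefficient gives a block of `C(t)` over `θ` inducing the block of `χ`. -/
theorem exists_induced (hM : IsPModular 2 M) {χ : IrrCharacter G} {θ : IrrCharacter D.O} (h : D.mu χ θ ≠ 0) :
    ∃ (ξ : IrrCharacter D.C) (b : Set (IrrCharacter D.C)), ξ ∈ b ∧
      classInner (D.resO (ξ : D.C → ℂ)) (θ : D.O → ℂ) ≠ 0 ∧
      IsInducedBlock M D.C b (blockOf M (χ : G → ℂ)) := by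
  classical
  have hH : D.C = Subgroup.centralizer (Subgroup.zpowers D.t : Set G) := (centralizer_zpowers D.t).symm
  have hcl : IsClassFunction D.C (fun c : D.C => (χ : G → ℂ) (D.t * c)) :=
    isClassFunction_translate χ D.t fun c hc => D.mem_C.1 hc
  set f : D.C → ℂ := fun c => (χ : G → ℂ) (D.t * c)
  obtain ⟨b, hb, hne⟩ : ∃ b, IsPBlock M b ∧ classInner (D.resO (blockPart b f)) (θ : D.O → ℂ) ≠ 0 := by
    by_contra hno
    push Not at hno
    refine h (Int.cast_injective (α := ℂ) ?_)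
    rw [← D.mu_spec, Int.cast_zero, show (fun y : D.O => (χ : G → ℂ) (D.t * y)) =
      ∑ b ∈ blocksFinset M D.C, D.resO (blockPart b f) from funext fun y => by
        rw [Finset.sum_apply]
        exact (sum_blockPart hM hcl (Subgroup.inclusion D.O_le_C y)).symm, classInner_sum_left]
    exact Finset.sum_eq_zero fun b hb => hno b ((mem_blocksFinset hM).1 hb)
  obtain ⟨ξ, hξb, hξ⟩ : ∃ ξ ∈ b, classInner (D.resO (ξ : D.C → ℂ)) (θ : D.O → ℂ) ≠ 0 := by
    by_contra hno
    push Not at hno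
    refine hne ?_
    rw [show D.resO (blockPart b f) = ∑ η ∈ Finset.univ.filter (· ∈ b),
      classInner f (η : D.C → ℂ) • D.resO (η : D.C → ℂ) from funext fun y => by
        rw [Finset.sum_apply, resO, blockPart_eq_sum]; rfl, classInner_sum_left]
    exact Finset.sum_eq_zero fun η hη => by
      rw [classInner_smul_left, hno η (Finset.mem_filter.1 hη).2, mul_zero]
  refine ⟨ξ, b, hξb, hξ, ?_⟩
  by_contra hnot
  refine hne ?_
  rw [show D.resO (blockPart b f) = 0 from funext fun y =>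
    blockPart_translate_eq_zero hM ⟨1, by rw [D.t_order, pow_one]⟩ hH (isPBlock_blockOf χ)
      (mem_blockOf_self hM χ) hb hnot (Subgroup.inclusion D.O_le_C y) (by
        rw [← Subgroup.orderOf_coe]; exact D.odd_O y.2), classInner_zero_left]

/-- The residue of the central character of `χ` at a point of `W`, read off an invariant `θ`. -/
theorem res_centralChar (hM : IsPModular 2 M) {χ : IrrCharacter G} {θ : IrrCharacter D.O}
    (hθ : D.Inv (θ : D.O → ℂ)) (h : D.mu χ θ ≠ 0) (v : D.W)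
    [DecidablePred fun w : D.W => IsConj (v : G) (w : G)] :
    res M (centralChar (χ : G → ℂ) v) =
      ∑ w ∈ Finset.univ.filter (fun w : D.W => IsConj (v : G) (w : G)), res M ((θ : D.O → ℂ) (D.ιW w)) := by
  classical
  haveI := charP_res hM
  obtain ⟨ξ, b, hξb, hξ, hind⟩ := D.exists_induced hM h
  obtain ⟨hres, -⟩ := D.exists_ext θ hθ ξ hξ
  have hodd : ¬ 2 ∣ deg (θ : D.O → ℂ) := fun hd =>
    D.odd_card_O (hd.trans (IsIrrCharacter.deg_dvd θ.2))
  set h' : ℂ := (deg (θ : D.O → ℂ) : ℂ) with hh'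
  have hu : (h'⁻¹ : ℂ) ∈ place M := (isUnitAt_natCast hM hodd).inv.mem_place
  have hres1 : res M h'⁻¹ = 1 := by
    have h1 : res M (h'⁻¹ * h') = 1 := by
      rw [inv_mul_cancel₀ (Nat.cast_ne_zero.2 (deg_irr_pos θ).ne'), res_one]
    obtain ⟨k, hk⟩ := Nat.not_even_iff_odd.1 fun e => hodd (even_iff_two_dvd.1 e)
    rwa [res_mul hu (natCast_mem_place _), res_natCast, hk, Nat.cast_add, Nat.cast_mul, Nat.cast_ofNat,
      CharTwo.two_eq_zero, zero_mul, zero_add, Nat.cast_one, mul_one] at h1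
  have hind' : inducedCentralChar D.C (ξ : D.C → ℂ) (v : G) =
      ∑ y : D.O, if IsConj (v : G) (y : G) then (θ : D.O → ℂ) y * h'⁻¹ else 0 := by
    unfold inducedCentralChar
    rw [finsum_mem_eq_sum_of_inter_support_eq _
      (t := (Finset.univ.filter fun y : D.O => IsConj (v : G) (y : G)).map
        ⟨Subgroup.inclusion D.O_le_C, Subgroup.inclusion_injective _⟩) ?_, Finset.sum_map, Finset.sum_filter]
    · refine Finset.sum_congr rfl fun y _ => ?_
      split_ifs
      · simp only [Function.Embedding.coeFn_mk]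
        rw [show (ξ : D.C → ℂ) (Subgroup.inclusion D.O_le_C y) = (θ : D.O → ℂ) y from congrFun hres y,
          show (ξ : D.C → ℂ) 1 = h' by
            rw [hh', ← irr_apply_one_eq_deg, ← congrFun hres 1, resO, map_one], div_eq_mul_inv]
      · rfl
    · ext c
      simp only [Set.mem_inter_iff, Set.mem_setOf_eq, Function.mem_support, Finset.coe_map,
        Function.Embedding.coeFn_mk, Set.mem_image, Finset.mem_coe, Finset.mem_filter, Finset.mem_univ,
        true_and]
      constructor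
      · rintro ⟨hc, hne⟩
        refine ⟨⟨⟨(c : G), ?_⟩, hc, rfl⟩, hne⟩
        refine (D.memO _).2 ⟨D.mem_C.1 c.2, ?_⟩
        obtain ⟨g, hg⟩ := isConj_iff.1 hc
        rw [← hg, show g * (v : G) * g⁻¹ = MulAut.conj g (v : G) from rfl, MulEquiv.orderOf_eq]
        exact D.odd_O (D.W_le_O v.2)
      · rintro ⟨⟨y, hy, rfl⟩, hne⟩
        exact ⟨hy, hne⟩
  have hsmall := hind.2.2 ξ hξb χ (mem_blockOf_self hM χ) (v : G)
  have hint : ∀ y : D.O, (θ : D.O → ℂ) y ∈ place M := fun y => apply_mem_place hM (isCharacter_of_irr θ.2) y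
  have hmem : ∀ y : D.O, (if IsConj (v : G) (y : G) then (θ : D.O → ℂ) y * h'⁻¹ else 0) ∈ place M := fun y => by
    split_ifs
    · exact mul_mem (hint y) hu
    · exact zero_mem _
  rw [← (res_eq_iff (by rw [hind']; exact sum_mem fun y _ => hmem y) (centralChar_mem_place hM χ _)).2
    (small_of_memLocalIdeal hM hsmall), hind', res_sum _ _ fun y _ => hmem y,
    D.sum_O_eq_W hM (f := fun y : D.O => res M (if IsConj (v : G) (y : G) then (θ : D.O → ℂ) y * h'⁻¹ else 0))
      (fun y => by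
        have hc : IsConj (y : G) ((D.cu y : D.O) : G) := isConj_iff.2 ⟨D.u, rfl⟩
        by_cases hy : IsConj (v : G) (y : G)
        · rw [if_pos hy, if_pos (hy.trans hc), hθ y]
        · rw [if_neg hy, if_neg fun h' => hy (h'.trans hc.symm)]),
    Finset.sum_filter]
  refine Finset.sum_congr rfl fun w _ => ?_
  show res M (if IsConj (v : G) ((D.ιW w : D.O) : G) then _ else _) = _
  by_cases hw : IsConj (v : G) (w : G)
  · rw [if_pos (show IsConj (v : G) ((D.ιW w : D.O) : G) from hw), if_pos hw, res_mul (hint _) hu, hres1, mul_one]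
  · rw [if_neg (show ¬ IsConj (v : G) ((D.ιW w : D.O) : G) from hw), if_neg hw]; exact res_zero

/-- A linear character of `W` as an irreducible character. -/
noncomputable def lin (ψ : ↥D.W →* ℂˣ) : IrrCharacter D.W := ⟨fun v => (ψ v : ℂ), isIrrCharacter_linear ψ⟩

/-- The correspondents of two invariant characters sharing a `χ` lie in one `σ`-orbit. -/
theorem corr_of_shared (hM : IsPModular 2 M) {χ : IrrCharacter G} {θ θ' : IrrCharacter D.O}
    (hθ : D.Inv (θ : D.O → ℂ)) (hθ' : D.Inv (θ' : D.O → ℂ)) (h : D.mu χ θ ≠ 0) (h' : D.mu χ θ' ≠ 0)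
    {ψ : ↥D.W →* ℂˣ} (hψ : Glauberman.Corr 2 D.ιW θ (D.lin ψ)) :
    ∃ β : IrrCharacter D.W, Glauberman.Corr 2 D.ιW θ' β ∧
      ∃ i : Fin 3, ∀ v : D.W, (β : D.W → ℂ) (D.cσ^[(i : ℕ)] v) = (ψ v : ℂ) := by
  classical
  haveI := charP_res hM
  haveI : Fact (Nat.Prime 2) := ⟨Nat.prime_two⟩
  obtain ⟨β, hβ, hβv⟩ := D.exists_corr hM θ' hθ'
  obtain ⟨β₀, hβ₀, hβ₀v⟩ := D.exists_corr hM θ hθ
  have hβ₀ψ : β₀ = D.lin ψ :=
    (Glauberman.existsUnique_corr D.actU_isPGroup D.odd_card_O D.actU_fixed (D.inv_actU hθ)).unique hβ₀ hψ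
  subst hβ₀ψ
  refine ⟨β, hβ, ?_⟩
  have hcl : ∀ (γ : IrrCharacter D.W) (a c : D.W),
      res M ((γ : D.W → ℂ) (c * a * c⁻¹)) = res M ((γ : D.W → ℂ) a) := fun γ a c => by
    rw [isClassFunction_irr γ a c]
  have hall : ∀ v : D.W, ∑ i : Fin 3, res M ((β : D.W → ℂ) (D.cσ^[(i : ℕ)] v)) =
      ∑ i : Fin 3, res M ((D.lin ψ : D.W → ℂ) (D.cσ^[(i : ℕ)] v)) := by
    intro v
    rw [← D.orbit_sum hM (f := fun w => res M ((β : D.W → ℂ) w)) (hcl β) v,
      ← D.orbit_sum hM (f := fun w => res M ((D.lin ψ : D.W → ℂ) w)) (hcl (D.lin ψ)) v]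
    have h1 := D.res_centralChar hM hθ' h' v
    have h2 := D.res_centralChar hM hθ h v
    simp only [hβv] at h1
    simp only [hβ₀v] at h2
    exact h1.symm.trans h2
  -- the automorphism `σ^i` of `W`
  let e : Fin 3 → MulAut ↥D.W := fun i => MulEquiv.ofBijective
    ({ toFun := D.cσ^[(i : ℕ)]
       map_one' := iterate_map_one D.cσ i
       map_mul' := fun a b => iterate_map_mul D.cσ i a b } : ↥D.W →* ↥D.W)
    (Finite.injective_iff_bijective.1 ((Function.Injective.iterate (fun a b h => Subtype.ext (by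
      simpa [cσ] using congrArg Subtype.val h)) (i : ℕ))))
  have he : ∀ i v, e i v = D.cσ^[(i : ℕ)] v := fun _ _ => rfl
  -- the inner product with `ψ`
  have hpair : ∀ γ : IrrCharacter D.W, ∑ v : D.W, res M (conj (ψ v : ℂ)) *
      ∑ i : Fin 3, res M ((γ : D.W → ℂ) (D.cσ^[(i : ℕ)] v)) =
        ∑ i : Fin 3, if Glauberman.twist (e i) γ = D.lin ψ then 1 else 0 := by
    intro γ
    simp only [Finset.mul_sum]
    rw [Finset.sum_comm]
    refine Finset.sum_congr rfl fun i _ => ?_
    have hc : ∀ v : D.W, conj (ψ v : ℂ) ∈ place M := fun v => by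
      rw [show (ψ v : ℂ) = (D.lin ψ : D.W → ℂ) v from rfl, ← IsCharacter.conj_inv (isCharacter_of_irr (D.lin ψ).2)]
      exact apply_mem_place hM (isCharacter_of_irr (D.lin ψ).2) _
    rw [Finset.sum_congr rfl fun v _ => (res_mul (hc v) (apply_mem_place hM (isCharacter_of_irr γ.2) _)).symm,
      ← res_sum _ _ fun v _ => mul_mem (hc v) (apply_mem_place hM (isCharacter_of_irr γ.2) _)]
    have h1 := classInner_irrCharacter (Glauberman.twist (e i) γ) (D.lin ψ)
    rw [classInner_def, inv_mul_eq_iff_eq_mul₀ (Nat.cast_ne_zero.2 Nat.card_pos.ne')] at h1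
    rw [Finset.sum_congr rfl (g := fun v : D.W => (Glauberman.twist (e i) γ : D.W → ℂ) v *
      conj ((D.lin ψ : D.W → ℂ) v)) fun v _ => by rw [Glauberman.twist_apply, he, mul_comm]; rfl, h1]
    split_ifs
    · rw [mul_one, res_natCast]
      obtain ⟨k, hk⟩ := Nat.not_even_iff_odd.1 fun h2 => D.odd_card_W (even_iff_two_dvd.1 h2)
      rw [hk, Nat.cast_add, Nat.cast_mul, Nat.cast_ofNat, CharTwo.two_eq_zero, zero_mul, zero_add, Nat.cast_one]
    · rw [mul_zero, res_zero]
  have hkey := (hpair β).symm.trans ((Finset.sum_congr rfl fun v _ => by rw [hall v]).trans (hpair (D.lin ψ)))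
  -- the right-hand side is one
  have h0 : Glauberman.twist (e 0) (D.lin ψ) = D.lin ψ := Subtype.ext (funext fun v => rfl)
  have h12 : Glauberman.twist (e 1) (D.lin ψ) = D.lin ψ ↔ Glauberman.twist (e 2) (D.lin ψ) = D.lin ψ := by
    have hstep : Glauberman.twist (e 1) (D.lin ψ) = D.lin ψ ↔ ∀ v, ψ (D.cσ v) = ψ v := by
      refine ⟨fun h v => Units.ext (congrFun (congrArg Subtype.val h) v), fun h => ?_⟩
      exact Subtype.ext (funext fun v => congrArg Units.val (h v))
    have hstep2 : Glauberman.twist (e 2) (D.lin ψ) = D.lin ψ ↔ ∀ v, ψ (D.cσ (D.cσ v)) = ψ v := by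
      refine ⟨fun h v => Units.ext (congrFun (congrArg Subtype.val h) v), fun h => ?_⟩
      exact Subtype.ext (funext fun v => congrArg Units.val (h v))
    rw [hstep, hstep2]
    refine ⟨fun h v => (h _).trans (h v), fun h v => ?_⟩
    -- the cube of `σ` acts on `W` as an element of `W`
    have h3 : D.σ ^ 3 * D.t * (D.σ ^ 3)⁻¹ = D.t := by
      rw [show D.σ ^ 3 = D.σ * D.σ ^ 2 from pow_succ' D.σ 2, show D.σ * D.σ ^ 2 * D.t * (D.σ * D.σ ^ 2)⁻¹ =
        D.σ * (D.σ ^ 2 * D.t * (D.σ ^ 2)⁻¹) * D.σ⁻¹ by group, D.σ2t,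
        show D.σ * (D.t * D.u) * D.σ⁻¹ = D.σ * D.t * D.σ⁻¹ * (D.σ * D.u * D.σ⁻¹) by group, D.σt, D.σu,
        D.tu.eq, D.u_mul_u]
    obtain ⟨c, hc, q, hq, hcq⟩ := D.exists_of_fix (pow_mem D.σ_mem_NP 3) h3
    have h5 : D.cσ (D.cσ (D.cσ v)) = ⟨c, hc⟩ * v * ⟨c, hc⟩⁻¹ := by
      apply Subtype.ext
      show D.σ * (D.σ * (D.σ * (v : G) * D.σ⁻¹) * D.σ⁻¹) * D.σ⁻¹ = c * (v : G) * c⁻¹
      have hqv : q * (v : G) * q⁻¹ = v := by rw [(D.commute_P_W hq v.2).eq, mul_inv_cancel_right]
      calc _ = D.σ ^ 3 * (v : G) * (D.σ ^ 3)⁻¹ := by simp [pow_succ, mul_assoc]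
        _ = c * (q * (v : G) * q⁻¹) * c⁻¹ := by rw [hcq]; group
        _ = _ := by rw [hqv]
    rw [← h (D.cσ v), h5, map_mul, map_mul, map_inv, mul_comm (ψ ⟨c, hc⟩) (ψ v), mul_inv_cancel_right]
  have hr : (∑ i : Fin 3, if Glauberman.twist (e i) (D.lin ψ) = D.lin ψ then (1 : Res M) else 0) = 1 := by
    rw [Fin.sum_univ_three, if_pos h0]
    by_cases h : Glauberman.twist (e 1) (D.lin ψ) = D.lin ψ
    · rw [if_pos h, if_pos (h12.1 h), add_assoc, CharTwo.add_self_eq_zero, add_zero]
    · rw [if_neg h, if_neg (mt h12.2 h), add_zero, add_zero]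
  rw [hr] at hkey
  obtain ⟨i, -, hi⟩ := Finset.exists_ne_zero_of_sum_ne_zero (hkey ▸ one_ne_zero)
  refine ⟨i, fun v => ?_⟩
  by_cases hti : Glauberman.twist (e i) β = D.lin ψ
  · exact congrFun (congrArg Subtype.val hti) v
  · exact absurd (if_neg hti) hi

/-- Conjugation by `u` as an automorphism of `O`. -/
def cuAut : MulAut ↥D.O := D.actU ⟨D.u, Subgroup.mem_zpowers _⟩

theorem inv_iff_twist (θ : IrrCharacter D.O) : D.Inv (θ : D.O → ℂ) ↔ Glauberman.twist D.cuAut θ = θ :=
  ⟨fun h => Subtype.ext (funext h), fun h y => congrFun (congrArg Subtype.val h) y⟩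

theorem twist_twist (θ : IrrCharacter D.O) : Glauberman.twist D.cuAut (Glauberman.twist D.cuAut θ) = θ :=
  Subtype.ext (funext fun y => by
    show (θ : D.O → ℂ) (D.cu (D.cu y)) = _
    rw [D.cu_cu])

/-- A sum over characters of `O` invariant under `u` reduces to the invariant characters. -/
theorem res_sum_invariant (hM : IsPModular 2 M) {a : IrrCharacter D.O → Res M}
    (ha : ∀ θ, a (Glauberman.twist D.cuAut θ) = a θ) [DecidablePred fun θ : IrrCharacter D.O => D.Inv (θ : D.O → ℂ)] :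
    ∑ θ, a θ = ∑ θ ∈ Finset.univ.filter (fun θ : IrrCharacter D.O => D.Inv (θ : D.O → ℂ)), a θ := by
  haveI := charP_res hM
  rw [← Finset.sum_filter_add_sum_filter_not Finset.univ
    (fun θ : IrrCharacter D.O => D.Inv (θ : D.O → ℂ)), add_eq_left]
  refine Finset.sum_involution (fun θ _ => Glauberman.twist D.cuAut θ)
    (fun θ _ => by rw [ha, CharTwo.add_self_eq_zero])
    (fun θ hθ _ e => (Finset.mem_filter.1 hθ).2 ((D.inv_iff_twist θ).2 e))
    (fun θ hθ => Finset.mem_filter.2 ⟨Finset.mem_univ _, fun h => (Finset.mem_filter.1 hθ).2 ?_⟩)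
    fun θ _ => D.twist_twist θ
  have := (D.inv_iff_twist _).1 h
  rw [D.twist_twist] at this
  exact (D.inv_iff_twist θ).2 this.symm

/-- Every induced block at `t` of a block of full defect has defect two. -/
theorem defect_two (hM : IsPModular 2 M) {χ : IrrCharacter G} (hχ : ¬ 2 ∣ deg (χ : G → ℂ))
    {H : Subgroup G} [Fintype H] (hH : H = Subgroup.centralizer (Subgroup.zpowers D.t : Set G))
    {b : Set (IrrCharacter H)} (hb : IsInducedBlock M H b (blockOf M (χ : G → ℂ))) : blockDefect 2 b = 2 := by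
  classical
  subst hH
  haveI : Fact (Nat.Prime 2) := ⟨Nat.prime_two⟩
  have hB : IsPBlock M (blockOf M (χ : G → ℂ)) := isPBlock_blockOf χ
  have hG : (Nat.card G).factorization 2 = 2 := by
    have h := Sylow.card_eq_multiplicity D.P
    rw [D.card_P] at h
    exact (Nat.pow_right_injective le_rfl (show 2 ^ 2 = 2 ^ (Nat.card G).factorization 2 from h)).symm
  have hdef : blockDefect 2 (blockOf M (χ : G → ℂ)) = 2 := by
    have h0 : sInf ((fun η : IrrCharacter G => (charDegree (η : G → ℂ)).factorization 2) ''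
        blockOf M (χ : G → ℂ)) = 0 :=
      Nat.sInf_eq_zero.2 (Or.inl ⟨χ, mem_blockOf_self hM χ, Nat.factorization_eq_zero_of_not_dvd hχ⟩)
    unfold blockDefect
    rw [hG, h0]
  obtain ⟨Q, hQ⟩ := exists_defectGroup hM hB
  have hQ4 : Nat.card Q = 4 := by rw [IsDefectGroup.card hM hB hQ, hdef]; norm_num
  have hQ2 : ∀ x ∈ Q, x * x = 1 := by
    obtain ⟨S, hS⟩ := (IsDefectGroup.isPGroup hQ).exists_le_sylow
    obtain ⟨g, hg⟩ := MulAction.exists_smul_eq G S D.P
    intro x hx
    have hmem : g * x * g⁻¹ ∈ (D.P : Subgroup G) := by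
      rw [← hg, Sylow.coe_subgroup_smul]
      exact Subgroup.mem_map.2 ⟨x, hS hx, rfl⟩
    have := D.exp_P _ hmem
    rw [show g * x * g⁻¹ * (g * x * g⁻¹) = g * (x * x) * g⁻¹ by group] at this
    simpa [mul_assoc] using congrArg (fun z => g⁻¹ * z * g) this
  have hV : IsKleinFour Q := by
    haveI : Nontrivial Q := Finite.one_lt_card_iff_nontrivial.1 (by rw [hQ4]; norm_num)
    exact ⟨hQ4, (Monoid.exponent_eq_prime_iff Nat.prime_two).2 fun x hx =>
      orderOf_eq_prime (Subtype.ext (by rw [Subgroup.coe_pow, pow_two, hQ2 x x.2]; rfl)) hx⟩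
  obtain ⟨e, he⟩ := exists_pair_of_defect hM hB hQ
  obtain ⟨T, hT⟩ : ∃ T : Subgroup G, IsPairStab Q e T := ⟨_, (isPairStab_iff hM he.1.1.2).2 rfl⟩
  exact (klein_section hM hQ hV he.1 hT D.t1 ⟨1, by rw [D.t_order, pow_one]⟩ hb).2.2

/-- An odd degree excludes the moved characters of `O`. -/
theorem inv_of_odd (hM : IsPModular 2 M) {χ : IrrCharacter G} (hχ : ¬ 2 ∣ deg (χ : G → ℂ))
    {θ : IrrCharacter D.O} (h : D.mu χ θ ≠ 0) : D.Inv (θ : D.O → ℂ) := by
  classical
  haveI : Fact (Nat.Prime 2) := ⟨Nat.prime_two⟩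
  haveI := charP_res hM
  by_contra hθ
  obtain ⟨ξ, b, hξb, hξ, hind⟩ := D.exists_induced hM h
  have h2 := D.defect_two hM hχ (centralizer_zpowers D.t).symm hind
  letI := Fintype.ofFinite (OC D)
  have hN : ¬ 2 ∣ Nat.card (OC D) := by
    rw [Nat.card_congr (Subgroup.subgroupOfEquivOfLe D.O_le_C).toEquiv]; exact D.odd_card_O
  have heven : ∀ η ∈ b, 2 ∣ deg (η : D.C → ℂ) := by
    intro η hη
    have hcon := constituent_of_sameBlock_pPrime hM (OC D) hN
      (IsPBlock.sameBlock hM hind.1 hξb hη) (θ := D.toOC θ)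
      (by
        rw [show classInner (fun n : OC D => (ξ : D.C → ℂ) n) (D.toOC θ : OC D → ℂ) =
          classInner (D.resO (ξ : D.C → ℂ)) (θ : D.O → ℂ) from D.classInner_resO _ _]
        exact hξ)
    have hno : ∀ φ : IrrCharacter D.O, D.Inv (φ : D.O → ℂ) →
        classInner (D.resO (η : D.C → ℂ)) (φ : D.O → ℂ) = 0 := by
      intro φ hφ
      by_contra hne
      obtain ⟨g, hg⟩ := exists_conjN_of_constituents (OC D) η.2 (D.toOC φ).2 (D.toOC θ).2
        (by rw [show classInner (fun n : OC D => (η : D.C → ℂ) n) (D.toOC φ : OC D → ℂ) =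
              classInner (D.resO (η : D.C → ℂ)) (φ : D.O → ℂ) from D.classInner_resO _ _]
            exact hne) hcon
      refine hθ ?_
      have heq : (θ : D.O → ℂ) = (φ : D.O → ℂ) := funext fun y => by
        have h1 := congrFun hg ((Subgroup.subgroupOfEquivOfLe D.O_le_C).symm y)
        simp only [toOC, MulEquiv.apply_symm_apply] at h1
        exact h1.trans (D.inv_conj hφ (D.mem_C.1 g.2) y)
      exact heq ▸ hφ
    choose m hm using fun φ : IrrCharacter D.O =>
      IsCharacter.exists_mult (IsCharacter.comp_hom (isCharacter_of_irr η.2) (Subgroup.inclusion D.O_le_C)) φ.2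
    have hdeg : deg (η : D.C → ℂ) = ∑ φ : IrrCharacter D.O, m φ * deg (φ : D.O → ℂ) := by
      apply Nat.cast_injective (R := ℂ)
      have h1 := classFunction_expand_apply (isClassFunction_isChar
        (IsCharacter.comp_hom (isCharacter_of_irr η.2) (Subgroup.inclusion D.O_le_C))) (1 : D.O)
      simp only [hm, map_one, irr_apply_one_eq_deg] at h1
      push_cast
      exact h1
    rw [← res_natCast_eq_zero_iff hM, hdeg, Nat.cast_sum,
      D.res_sum_invariant hM (a := fun φ => ((m φ * deg (φ : D.O → ℂ) : ℕ) : Res M)) fun φ => ?_]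
    · refine Finset.sum_eq_zero fun φ hφ => ?_
      have h0 : m φ = 0 := Nat.cast_eq_zero.1 ((hm φ).symm.trans (hno φ (Finset.mem_filter.1 hφ).2))
      rw [h0, zero_mul, Nat.cast_zero]
    · have hd : deg ((Glauberman.twist D.cuAut φ : IrrCharacter D.O) : D.O → ℂ) = deg (φ : D.O → ℂ) := by
        unfold deg; rw [Glauberman.twist_apply, map_one]
      rw [hd]
      congr 2
      apply Nat.cast_injective (R := ℂ)
      rw [← hm, ← hm]
      refine Eq.trans ?_ (classInner_comp_equiv D.cuAut.toEquiv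
        (fun y : D.O => (η : D.C → ℂ) (Subgroup.inclusion D.O_le_C y)) (φ : D.O → ℂ))
      congr 1
      funext y
      rw [← isClassFunction_irr η (Subgroup.inclusion D.O_le_C y) ⟨D.u, D.u_mem_C⟩]
      rfl
  have hC : (Nat.card D.C).factorization 2 = 2 := by
    rw [D.card_C, Nat.factorization_mul (by norm_num) Nat.card_pos.ne', Finsupp.add_apply,
      Nat.factorization_eq_zero_of_not_dvd D.odd_card_O, add_zero, show (4 : ℕ) = 2 ^ 2 by norm_num,
      Nat.Prime.factorization_pow Nat.prime_two, Finsupp.single_eq_same]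
  have hle : blockDefect 2 b ≤ 1 := by
    rw [blockDefect, hC]
    set S := (fun χ : IrrCharacter D.C => (charDegree (χ : D.C → ℂ)).factorization 2) '' b
    have hne : S.Nonempty := ⟨_, ξ, hξb, rfl⟩
    obtain ⟨η, hη, hηS⟩ := Nat.sInf_mem hne
    have : 1 ≤ sInf S := by
      rw [← hηS]
      exact Nat.prime_two.factorization_pos_of_dvd (deg_irr_pos η).ne' (heven η hη)
    omega
  exact absurd (h2.symm.trans_le hle) (by norm_num)

end Data

end Cfsg.Lib.GW.Chr
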