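import Cfsg.Agent.FourGroupGW.Chars.Block
import Cfsg.Agent.Chars.TwoDegrees

/-!
# The class identity

Pairs of conjugates of `t` with product in `tO` are pairs of involutions of the coset `uO`, up to a factor `t`.  With
an extension of `θ` to `C(t)` of absolute value one at `u` this gives
`∑ χ(t)² mu χ θ / χ(1) = 32 |O|³ / (|W|² h |G|)`.
-/

set_option autoImplicit false
set_option linter.unusedSectionVars false
set_option linter.style.haveILetI false

namespace Cfsg.Lib.GW.Chr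

open Cfsg Cfsg.Lib.Chars Cfsg.Lib.Blocks
open scoped ComplexConjugate

universe u

variable {G : Type u} [Group G] [Fintype G] {M : Ideal AlgInt}

namespace Data

variable (D : Data G) [Fintype D.O] [Fintype D.W] [Fintype D.C]

open Classical in
/-- The involutions of the coset `uO`. -/
noncomputable def invSet : Finset G := Finset.univ.filter fun a : G => a * a = 1 ∧ a * D.u ∈ D.O

theorem mem_invSet {a : G} : a ∈ D.invSet ↔ a * a = 1 ∧ a * D.u ∈ D.O := by
  classical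
  simp [invSet]

theorem u_mem_invSet : D.u ∈ D.invSet := D.mem_invSet.2 ⟨D.u2, by rw [D.u2]; exact one_mem _⟩

theorem commute_invSet {a : G} (ha : a ∈ D.invSet) : Commute D.t a := by
  have h := (D.commute_t (D.mem_invSet.1 ha).2).mul_right D.tu
  rwa [mul_assoc, D.u2, mul_one] at h

theorem invSet_ne {a : G} (ha : a ∈ D.invSet) : a ≠ 1 ∧ a ≠ D.t := by
  constructor <;> rintro rfl <;> refine D.odd_O (D.mem_invSet.1 ha).2 ?_
  · rw [one_mul, D.u_order]
  · rw [orderOf_eq_prime (p := 2) (by rw [pow_two]; exact D.exp_P _ (mul_mem D.tP D.uP)) D.tu_ne_one]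

theorem card_invSet : D.invSet.card * Nat.card D.W = Nat.card D.O := by
  classical
  unfold invSet
  refine card_involutions_coset D.O D.W D.u2 (fun y hy => D.odd_O hy) (fun l hl => ?_) fun l => ?_
  · have := D.conj_mem_O D.tu hl
    rwa [D.uinv] at this
  · rw [D.memW]
    exact ⟨fun h => ⟨h.1, h.2.symm⟩, fun h => ⟨h.1, h.2.symm⟩⟩

theorem isConj_u_iff (x : D.C) : IsConj (⟨D.u, D.u_mem_C⟩ : D.C) x ↔ (x : G) ∈ D.invSet := by
  constructor
  · intro h
    obtain ⟨c, rfl⟩ := isConj_iff.1 h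
    refine D.mem_invSet.2 ⟨?_, ?_⟩
    · show (c : G) * D.u * (c : G)⁻¹ * ((c : G) * D.u * (c : G)⁻¹) = 1
      calc _ = (c : G) * (D.u * D.u) * (c : G)⁻¹ := by group
        _ = 1 := by rw [D.u2, mul_one, mul_inv_cancel]
    · show (c : G) * D.u * (c : G)⁻¹ * D.u ∈ D.O
      obtain ⟨q, hq, ho⟩ := D.exists_mul_mem (D.mem_C.1 c.2)
      have hqi : q⁻¹ = q := inv_eq_of_mul_eq_one_right (D.exp_P q hq)
      have hqu : q * D.u = D.u * q := (commute_of_sq_eq_one D.exp_P hq D.uP).eq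
      have h2 := mul_mem ho (D.conj_mem_O D.tu (inv_mem ho))
      convert h2 using 1
      rw [mul_inv_rev, hqi, D.uinv]
      calc (c : G) * D.u * (c : G)⁻¹ * D.u = (c : G) * (q * q) * D.u * (c : G)⁻¹ * D.u := by
            rw [D.exp_P q hq, mul_one]
        _ = (c : G) * q * (q * D.u) * (c : G)⁻¹ * D.u := by group
        _ = _ := by rw [hqu]; group
  · intro hx
    obtain ⟨hx2, hy⟩ := D.mem_invSet.1 hx
    obtain ⟨k, hk⟩ : Odd (orderOf ((x : G) * D.u)) :=
      Nat.not_even_iff_odd.1 fun h => D.odd_O hy (even_iff_two_dvd.1 h)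
    set y := (x : G) * D.u with hy'
    have hinv : D.u * y * D.u⁻¹ = y⁻¹ := by
      rw [hy', mul_inv_rev, inv_eq_of_mul_eq_one_right hx2, D.uinv, mul_assoc D.u, mul_assoc (x : G), D.u2,
        mul_one]
    have hm : D.u * (y ^ (k + 1)) * D.u⁻¹ = (y ^ (k + 1))⁻¹ := by
      rw [← inv_pow, ← hinv, conj_pow]
    set m := y ^ (k + 1)
    refine isConj_iff.2 ⟨⟨m, D.O_le_C (pow_mem hy _)⟩, Subtype.ext ?_⟩
    show m * D.u * m⁻¹ = (x : G)
    rw [← hm]
    calc m * D.u * (D.u * m * D.u⁻¹) = m * (D.u * D.u) * m * D.u⁻¹ := by group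
      _ = y ^ (k + 1) * y ^ (k + 1) * D.u⁻¹ := by rw [D.u2, mul_one]
      _ = x := by
        rw [← pow_add, show k + 1 + (k + 1) = orderOf y + 1 by omega, pow_succ, pow_orderOf_eq_one,
          one_mul, hy', mul_inv_cancel_right]

/-- The sum of an irreducible character of `C(t)` over products of two conjugates of `u`. -/
theorem sum_invSet (ξ : IrrCharacter D.C) (f : G → ℂ) (hf : ∀ x : D.C, f x = (ξ : D.C → ℂ) x) :
    ∑ a ∈ D.invSet, ∑ b ∈ D.invSet, f (a * b) =
      (D.invSet.card : ℂ) ^ 2 * ((ξ : D.C → ℂ) ⟨D.u, D.u_mem_C⟩) ^ 2 / (ξ : D.C → ℂ) 1 := by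
  classical
  set uC : D.C := ⟨D.u, D.u_mem_C⟩
  have key : ∀ g : G → ℂ, ∑ a ∈ D.invSet, g a = ∑ x ∈ Finset.univ.filter (IsConj uC), g (x : G) := by
    intro g
    symm
    refine Finset.sum_bij (fun x _ => (x : G)) (fun x hx => (D.isConj_u_iff x).1 (Finset.mem_filter.1 hx).2)
      (fun _ _ _ _ h => Subtype.ext h) (fun a ha => ?_) fun _ _ => rfl
    exact ⟨⟨a, D.mem_C.2 (D.commute_invSet ha)⟩,
      Finset.mem_filter.2 ⟨Finset.mem_univ _, (D.isConj_u_iff _).2 ha⟩, rfl⟩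
  have hcard : (Nat.card {x : D.C // IsConj uC x} : ℂ) = (D.invSet.card : ℂ) := by
    have h := key fun _ => 1
    simp only [Finset.sum_const, nsmul_one] at h
    rw [h, Nat.card_eq_fintype_card, Fintype.card_subtype]
  have hprod := sum_class_products (G := D.C) ξ.2 uC uC 1
  rw [hcard] at hprod
  rw [key]
  refine (Finset.sum_congr rfl fun x _ => key _).trans ?_
  rw [show (∑ x ∈ Finset.univ.filter (IsConj uC), ∑ y ∈ Finset.univ.filter (IsConj uC), f ((x : G) * (y : G))) =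
      ∑ x ∈ Finset.univ.filter (IsConj uC), ∑ y ∈ Finset.univ.filter (IsConj uC), (ξ : D.C → ℂ) (x * y * 1) from
      Finset.sum_congr rfl fun x _ => Finset.sum_congr rfl fun y _ => by rw [mul_one, ← hf]; rfl]
  refine (Eq.trans ?_ hprod).trans ?_
  · congr!
  · field_simp [IsIrrCharacter.apply_one_ne_zero ξ.2]

theorem inv_invSet {a : G} (ha : a ∈ D.invSet) : a⁻¹ = a := inv_eq_of_mul_eq_one_right (D.mem_invSet.1 ha).1

theorem mul_invSet_mem {a b : G} (ha : a ∈ D.invSet) (hb : b ∈ D.invSet) : a * b ∈ D.O := by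
  have h := mul_mem (D.mem_invSet.1 ha).2 (inv_mem (D.mem_invSet.1 hb).2)
  rwa [mul_inv_rev, D.uinv, D.inv_invSet hb, mul_assoc, D.u_mul_u] at h

theorem conj_t_invSet {a : G} (ha : a ∈ D.invSet) : IsConj D.t a ∧ IsConj D.t (D.t * a) := by
  have h := D.commute_invSet ha
  refine ⟨D.isConj_t (orderOf_eq_prime (by rw [pow_two]; exact (D.mem_invSet.1 ha).1) (D.invSet_ne ha).1),
    D.isConj_t (orderOf_eq_prime ?_ fun e => (D.invSet_ne ha).2 ?_)⟩
  · rw [pow_two]
    calc D.t * a * (D.t * a) = D.t * (a * D.t) * a := by group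
      _ = D.t * (D.t * a) * a := by rw [h.eq]
      _ = 1 := by rw [D.t_mul_t, (D.mem_invSet.1 ha).1]
  · rw [eq_inv_of_mul_eq_one_right e, D.tinv]

/-- Two conjugates of `t` with product in `tO` come from the coset of `u`, up to a factor `t`. -/
theorem exists_pair {s s' : G} {y : D.O} (hs : IsConj D.t s) (hs' : IsConj D.t s')
    (h : s * s' = D.t * (y : G)) :
    ∃ a ∈ D.invSet, ∃ b ∈ D.invSet, a * b = (y : G) ∧
      ((s = a ∧ s' = D.t * b) ∨ (s = D.t * a ∧ s' = b)) := by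
  have hinvol : ∀ w : G, IsConj D.t w → w * w = 1 ∧ w ≠ 1 := by
    intro w hw
    obtain ⟨g, rfl⟩ := isConj_iff.1 hw
    refine ⟨?_, fun e => D.t1 ?_⟩
    · calc g * D.t * g⁻¹ * (g * D.t * g⁻¹) = g * (D.t * D.t) * g⁻¹ := by group
        _ = 1 := by rw [D.t2, mul_one, mul_inv_cancel]
    · calc D.t = g⁻¹ * (g * D.t * g⁻¹) * g := by group
        _ = 1 := by rw [e]; group
  obtain ⟨hs2, hs1⟩ := hinvol s hs
  obtain ⟨hs2', hs1'⟩ := hinvol s' hs'
  have hsi : s⁻¹ = s := inv_eq_of_mul_eq_one_right hs2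
  have hsi' : s'⁻¹ = s' := inv_eq_of_mul_eq_one_right hs2'
  -- `s` inverts the product, so it centralises its 2-part
  have hct : Commute D.t s := by
    refine (D.commute_of_conj (x := s) (y := y) (y' := y⁻¹) ?_).1
    rw [← h, hsi]
    push_cast
    calc s * (s * s') * s = s * s * (s' * s) := by group
      _ = (s * s')⁻¹ := by rw [hs2, one_mul, mul_inv_rev, hsi, hsi']
      _ = (D.t * (y : G))⁻¹ := by rw [h]
      _ = D.t * (y : G)⁻¹ := by rw [mul_inv_rev, D.tinv, (D.commute_t y.2).inv_right.eq]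
  have hs'e : s' = s * (D.t * (y : G)) := by rw [← h, ← mul_assoc, hs2, one_mul]
  have hct' : Commute D.t s' := hs'e ▸ hct.mul_right ((Commute.refl D.t).mul_right (D.commute_t y.2))
  obtain ⟨q, hq, hsq⟩ := D.exists_mul_mem hct
  have key : ∀ a : G, a * a = 1 → a * D.u ∈ D.O → a * (y : G) * (a * (y : G)) = 1 →
      a ∈ D.invSet ∧ a * (y : G) ∈ D.invSet ∧ a * (a * (y : G)) = (y : G) := by
    intro a ha hau hay
    refine ⟨D.mem_invSet.2 ⟨ha, hau⟩, D.mem_invSet.2 ⟨hay, ?_⟩, by rw [← mul_assoc, ha, one_mul]⟩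
    have h2 := mul_mem hau (D.conj_mem_O D.tu y.2)
    convert h2 using 1
    rw [D.uinv]
    calc a * (y : G) * D.u = a * (D.u * D.u) * (y : G) * D.u := by rw [D.u2, mul_one]
      _ = _ := by group
  rcases (D.memP q).1 hq with rfl | rfl | rfl | rfl
  · rw [mul_one] at hsq
    exact absurd (dvd_of_eq (orderOf_eq_prime (by rw [pow_two]; exact hs2) hs1).symm) (D.odd_O hsq)
  · exfalso
    have hst : s * D.t = 1 := by
      by_contra hne
      refine D.odd_O hsq (dvd_of_eq (orderOf_eq_prime ?_ hne).symm)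
      rw [pow_two]
      calc s * D.t * (s * D.t) = s * (D.t * s) * D.t := by group
        _ = s * (s * D.t) * D.t := by rw [hct.eq]
        _ = 1 := by rw [← mul_assoc, hs2, one_mul, D.t2]
    have hst' : s = D.t := by rw [eq_inv_of_mul_eq_one_left hst, D.tinv]
    rw [hst', D.t_mul_t] at hs'e
    exact D.odd_O y.2 (dvd_of_eq (by rw [← hs'e, orderOf_eq_prime (by rw [pow_two]; exact hs2') hs1']))
  · have hb : D.t * s' = s * (y : G) := by
      rw [hs'e, ← mul_assoc D.t, hct.eq, mul_assoc, D.t_mul_t]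
    have hb2 : s * (y : G) * (s * (y : G)) = 1 := by
      rw [← hb]
      calc D.t * s' * (D.t * s') = D.t * (s' * D.t) * s' := by group
        _ = D.t * (D.t * s') * s' := by rw [hct'.eq]
        _ = 1 := by rw [D.t_mul_t, hs2']
    obtain ⟨h1, h2, h3⟩ := key s hs2 hsq hb2
    refine ⟨s, h1, _, h2, h3, Or.inl ⟨rfl, ?_⟩⟩
    rw [← hb, D.t_mul_t]
  · have hb : D.t * s * (y : G) = s' := by rw [hs'e, hct.eq, mul_assoc]
    have ha : D.t * s * (D.t * s) = 1 := by
      calc D.t * s * (D.t * s) = D.t * (s * D.t) * s := by group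
        _ = D.t * (D.t * s) * s := by rw [hct.eq]
        _ = 1 := by rw [D.t_mul_t, hs2]
    obtain ⟨h1, h2, h3⟩ := key (D.t * s) ha (by rwa [hct.eq, mul_assoc]) (by rw [hb, hs2'])
    exact ⟨D.t * s, h1, _, h2, h3, Or.inr ⟨(D.t_mul_t s).symm, hb.symm⟩⟩

open Classical in
/-- Weighted count of the pairs of conjugates of `t` with product in `tO`. -/
theorem sum_pairs (F : G → ℂ) :
    ∑ y : D.O, (Nat.card {p : G × G // IsConj D.t p.1 ∧ IsConj D.t p.2 ∧ p.1 * p.2 = D.t * (y : G)} : ℂ) * F y =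
      2 * ∑ a ∈ D.invSet, ∑ b ∈ D.invSet, F (a * b) := by
  set T : D.O → Finset (G × G) := fun y => Finset.univ.filter fun p : G × G =>
    IsConj D.t p.1 ∧ IsConj D.t p.2 ∧ p.1 * p.2 = D.t * (y : G) with hT
  have h1 : ∀ y : D.O,
      (Nat.card {p : G × G // IsConj D.t p.1 ∧ IsConj D.t p.2 ∧ p.1 * p.2 = D.t * (y : G)} : ℂ) * F y =
        ∑ _p ∈ T y, F y := fun y => by
    rw [Finset.sum_const, nsmul_eq_mul, Nat.card_eq_fintype_card, Fintype.card_subtype]
  simp only [h1]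
  rw [← Finset.sum_product' D.invSet D.invSet (fun a b => F (a * b))]
  rw [show (2 : ℂ) * ∑ x ∈ D.invSet ×ˢ D.invSet, F (x.1 * x.2) =
    ∑ z ∈ (Finset.univ : Finset Bool) ×ˢ (D.invSet ×ˢ D.invSet), F (z.2.1 * z.2.2) by
      simp only [Finset.sum_product, Fintype.sum_bool]; ring, ← Finset.sum_sigma (Finset.univ) T
      (fun z => F (z.1 : G))]
  symm
  refine Finset.sum_bij (fun z hz => (⟨⟨z.2.1 * z.2.2, D.mul_invSet_mem (Finset.mem_product.1 (Finset.mem_product.1 hz).2).1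
      (Finset.mem_product.1 (Finset.mem_product.1 hz).2).2⟩,
      if z.1 then (z.2.1, D.t * z.2.2) else (D.t * z.2.1, z.2.2)⟩ : Σ _ : D.O, G × G)) ?_ ?_ ?_ fun _ _ => rfl
  · rintro ⟨i, a, b⟩ hz
    obtain ⟨ha, hb⟩ := Finset.mem_product.1 (Finset.mem_product.1 hz).2
    refine Finset.mem_sigma.2 ⟨Finset.mem_univ _, Finset.mem_filter.2 ⟨Finset.mem_univ _, ?_⟩⟩
    cases i
    · exact ⟨(D.conj_t_invSet ha).2, (D.conj_t_invSet hb).1, mul_assoc _ _ _⟩
    · refine ⟨(D.conj_t_invSet ha).1, (D.conj_t_invSet hb).2, ?_⟩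
      show a * (D.t * b) = D.t * (a * b)
      rw [← mul_assoc, ← (D.commute_invSet ha).eq, mul_assoc]
  · rintro ⟨i, a, b⟩ hz ⟨i', a', b'⟩ hz' e
    obtain ⟨ha, hb⟩ := Finset.mem_product.1 (Finset.mem_product.1 hz).2
    obtain ⟨ha', hb'⟩ := Finset.mem_product.1 (Finset.mem_product.1 hz').2
    simp only [Sigma.mk.injEq, heq_eq_eq] at e
    have hne : ∀ c ∈ D.invSet, ∀ c' ∈ D.invSet, c ≠ D.t * c' := by
      intro c hc c' hc' h
      have := D.mul_invSet_mem hc hc'
      rw [h, mul_assoc, (D.mem_invSet.1 hc').1, mul_one] at this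
      exact D.odd_O this (dvd_of_eq D.t_order.symm)
    cases i <;> cases i' <;> simp at e
    · obtain ⟨-, e1, e2⟩ := e
      rw [e1, e2]
    · exact absurd e.2.1.symm (hne _ ha' _ ha)
    · exact absurd e.2.1 (hne _ ha _ ha')
    · obtain ⟨-, e1, e2⟩ := e
      rw [e1, e2]
  · rintro ⟨y, s, s'⟩ hm
    obtain ⟨hs, hs', hprod⟩ := (Finset.mem_filter.1 (Finset.mem_sigma.1 hm).2).2
    obtain ⟨a, ha, b, hb, hab, hc⟩ := D.exists_pair hs hs' hprod
    rcases hc with ⟨rfl, rfl⟩ | ⟨rfl, rfl⟩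
    · refine ⟨(true, s, b), Finset.mem_product.2 ⟨Finset.mem_univ _, Finset.mem_product.2 ⟨ha, hb⟩⟩, ?_⟩
      simp [Subtype.ext_iff, hab]
    · refine ⟨(false, a, s'), Finset.mem_product.2 ⟨Finset.mem_univ _, Finset.mem_product.2 ⟨ha, hb⟩⟩, ?_⟩
      simp [Subtype.ext_iff, hab]

/-- Some irreducible character of `C(t)` lies over `θ`. -/
theorem exists_over_O (θ : IrrCharacter D.O) :
    ∃ ξ : IrrCharacter D.C, classInner (D.resO (ξ : D.C → ℂ)) (θ : D.O → ℂ) ≠ 0 := by
  classical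
  letI := Fintype.ofFinite (OC D)
  obtain ⟨ξ, hξ, hne⟩ := exists_constituent_ind (G := D.C) (OC D) (D.toOC θ).2
  refine ⟨⟨ξ, hξ⟩, ?_⟩
  rwa [← D.classInner_resO]

/-- Twisted conjugation covers the coset of `u`, each point `|W|` times. -/
theorem sum_coset (f : D.O → ℝ) :
    (∑ x : D.O × D.W, f (D.cu x.1 * D.ιW x.2 * x.1⁻¹)) = (Nat.card D.W : ℝ) * ∑ y, f y := by
  classical
  set F : D.O × D.W → D.O := fun x => D.cu x.1 * D.ιW x.2 * x.1⁻¹ with hF
  have hF' : ∀ x : D.O × D.W, D.u * (F x : G) = (x.1 : G) * (D.u * (x.2 : G)) * (x.1 : G)⁻¹ := by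
    intro x
    show D.u * (D.u * (x.1 : G) * D.u⁻¹ * (x.2 : G) * (x.1 : G)⁻¹) = _
    rw [D.uinv]
    calc _ = D.u * D.u * ((x.1 : G) * (D.u * (x.2 : G)) * (x.1 : G)⁻¹) := by group
      _ = _ := by rw [D.u2, one_mul]
  have hfib : ∀ x : D.O × D.W, (Finset.univ.filter fun z => F z = F x).card = Nat.card D.W := by
    intro x
    rw [Nat.card_eq_fintype_card, ← Finset.card_univ]
    symm
    refine Finset.card_bij (fun c _ => (x.1 * (D.ιW c)⁻¹, c * x.2 * c⁻¹)) (fun c _ => ?_)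
      (fun a _ b _ h => D.actU_fixed.inj (inv_injective (mul_left_cancel (congrArg Prod.fst h)))) ?_
    · refine Finset.mem_filter.2 ⟨Finset.mem_univ _, Subtype.ext (mul_left_cancel (a := D.u) ?_)⟩
      rw [hF', hF']
      push_cast
      simp only [D.ιW_coe]
      have hcu : Commute D.u (c : G) := ((D.memW _).1 c.2).2
      calc _ = (x.1 : G) * ((c : G)⁻¹ * (D.u * (c : G)) * (x.2 : G)) * (x.1 : G)⁻¹ := by group
        _ = _ := by rw [hcu.eq]; group
    · rintro ⟨o, v⟩ hz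
      have h := congrArg (fun w : D.O => D.u * (w : G)) (Finset.mem_filter.1 hz).2
      simp only [hF'] at h
      obtain ⟨n, hn⟩ := Nat.not_even_iff_odd.1 fun h2 => D.odd_card_W (even_iff_two_dvd.1 h2)
      have hpow : ∀ w : D.W, (D.u * (w : G)) ^ Nat.card D.W = D.u := by
        intro w
        rw [Commute.mul_pow ((D.memW _).1 w.2).2, ← Subgroup.coe_pow, pow_card_eq_one', OneMemClass.coe_one,
          mul_one, hn, pow_succ, pow_mul, pow_two, D.u2, one_pow, one_mul]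
      set c : G := (o : G)⁻¹ * (x.1 : G) with hc
      have h' : c * (D.u * (x.2 : G)) * c⁻¹ = D.u * (v : G) := by
        calc c * (D.u * (x.2 : G)) * c⁻¹ = (o : G)⁻¹ * ((x.1 : G) * (D.u * (x.2 : G)) * (x.1 : G)⁻¹) * o := by
              rw [hc]; group
          _ = _ := by rw [← h]; group
      have hcu : c * D.u * c⁻¹ = D.u := by
        have h2 := congrArg (fun z => z ^ Nat.card D.W) h'
        simp only [conj_pow, hpow] at h2
        exact h2
      have hcu' : Commute D.u c := (mul_inv_eq_iff_eq_mul.1 hcu).symm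
      have hcW : c ∈ D.W := (D.memW _).2 ⟨mul_mem (inv_mem o.2) x.1.2, hcu'⟩
      refine ⟨⟨c, hcW⟩, Finset.mem_univ _, Prod.ext (Subtype.ext ?_) (Subtype.ext ?_)⟩
      · show (x.1 : G) * ((o : G)⁻¹ * (x.1 : G))⁻¹ = o
        group
      · show c * (x.2 : G) * c⁻¹ = v
        refine mul_left_cancel (a := D.u) ?_
        rw [← h']
        calc D.u * (c * (x.2 : G) * c⁻¹) = D.u * c * (x.2 : G) * c⁻¹ := by group
          _ = _ := by rw [hcu'.eq]; group
  have hsurj : Finset.univ.image F = Finset.univ := by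
    apply Finset.eq_univ_of_card
    have h := Finset.card_eq_sum_card_image F (Finset.univ : Finset (D.O × D.W))
    rw [Finset.sum_congr rfl (g := fun _ => Nat.card D.W) fun y hy => by
      obtain ⟨x, -, rfl⟩ := Finset.mem_image.1 hy; exact hfib x, Finset.sum_const, smul_eq_mul, Finset.card_univ,
      Fintype.card_prod, ← Nat.card_eq_fintype_card (α := D.W)] at h
    exact (Nat.eq_of_mul_eq_mul_right Nat.card_pos h).symm
  rw [Finset.mul_sum, ← Finset.sum_fiberwise Finset.univ F]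
  refine Finset.sum_congr rfl fun y _ => ?_
  obtain ⟨x, -, rfl⟩ := Finset.mem_image.1 (hsurj ▸ Finset.mem_univ y)
  rw [Finset.sum_congr rfl (g := fun _ => f (F x)) fun z hz => by rw [(Finset.mem_filter.1 hz).2.symm],
    Finset.sum_const, nsmul_eq_mul, hfib x]

/-- An extension has value `±1` at `u` when the correspondent is linear. -/
theorem ext_u_sq (hM : IsPModular 2 M) (θ : IrrCharacter D.O) (hθ : D.Inv (θ : D.O → ℂ)) {ψ : ↥D.W →* ℂˣ}
    (hψ : Glauberman.Corr 2 D.ιW θ (D.lin ψ)) (ξ : IrrCharacter D.C)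
    (hξ : classInner (D.resO (ξ : D.C → ℂ)) (θ : D.O → ℂ) ≠ 0) :
    ((ξ : D.C → ℂ) ⟨D.u, D.u_mem_C⟩) ^ 2 = 1 := by
  classical
  haveI : Fact (Nat.Prime 2) := ⟨Nat.prime_two⟩
  haveI := charP_res hM
  obtain ⟨hres, hnorm⟩ := D.exists_ext θ hθ ξ hξ
  set uC : D.C := ⟨D.u, D.u_mem_C⟩ with huC
  set inc := Subgroup.inclusion D.O_le_C
  set g : D.W → ℂ := fun v => (ξ : D.C → ℂ) (uC * inc (D.ιW v)) with hg
  -- the norm of `g`
  have hsum : ∑ v : D.W, Complex.normSq (g v) = (Nat.card D.W : ℝ) := by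
    have h := D.sum_coset fun y => Complex.normSq ((ξ : D.C → ℂ) (uC * inc y))
    rw [hnorm, Fintype.sum_prod_type, Finset.sum_congr rfl (g := fun _ : D.O => ∑ v : D.W, Complex.normSq (g v))
      fun o _ => Finset.sum_congr rfl fun v _ => ?_] at h
    · rw [Finset.sum_const, Finset.card_univ, ← Nat.card_eq_fintype_card, nsmul_eq_mul,
        mul_comm (Nat.card D.W : ℝ)] at h
      exact mul_left_cancel₀ (Nat.cast_ne_zero.2 Nat.card_pos.ne') h
    · rw [hg, show uC * inc (D.cu o * D.ιW v * o⁻¹) = inc o * (uC * inc (D.ιW v)) * (inc o)⁻¹ from ?_,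
        isClassFunction_irr ξ]
      apply Subtype.ext
      show D.u * (D.u * (o : G) * D.u⁻¹ * (v : G) * (o : G)⁻¹) = (o : G) * (D.u * (v : G)) * (o : G)⁻¹
      rw [D.uinv]
      calc _ = D.u * D.u * ((o : G) * (D.u * (v : G)) * (o : G)⁻¹) := by group
        _ = _ := by rw [D.u2, one_mul]
  -- integer coefficients
  let K : Subgroup D.C := D.E.subgroupOf D.C
  letI := Fintype.ofFinite K
  let L : Subgroup D.C := D.W.subgroupOf D.C
  letI := Fintype.ofFinite L
  have hWC : D.W ≤ D.C := D.W_le_O.trans D.O_le_C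
  let e : L ≃* D.W := Subgroup.subgroupOfEquivOfLe hWC
  have hint : ∀ γ : IrrCharacter D.W, ∃ n : ℤ, classInner g (γ : D.W → ℂ) = n := by
    intro γ
    obtain ⟨n, hn⟩ := exists_int_inner (G := D.C) K (z := uC) (D.mem_E.2 ⟨D.tu, Commute.refl _⟩)
      (Subtype.ext D.u2) (fun w hw => Subtype.ext (D.mem_E.1 hw).2.eq) (isCharacter_of_irr ξ.2) L
      (fun w hw => D.W_le_E hw)
      ⟨fun n => (γ : D.W → ℂ) (e n), IsIrrCharacter.comp_surjective γ.2 e.toMonoidHom e.surjective⟩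
    refine ⟨n, ?_⟩
    rw [← hn]
    exact (classInner_comp_equiv e.toEquiv g (γ : D.W → ℂ)).symm
  choose m hm using hint
  have hcl : IsClassFunction D.W g := fun a h => by
    rw [hg]
    show (ξ : D.C → ℂ) (uC * inc (D.ιW (h * a * h⁻¹))) = _
    rw [show uC * inc (D.ιW (h * a * h⁻¹)) = inc (D.ιW h) * (uC * inc (D.ιW a)) * (inc (D.ιW h))⁻¹ from ?_,
      isClassFunction_irr ξ]
    apply Subtype.ext
    show D.u * ((h : G) * (a : G) * (h : G)⁻¹) = (h : G) * (D.u * (a : G)) * (h : G)⁻¹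
    calc _ = D.u * (h : G) * (a : G) * (h : G)⁻¹ := by group
      _ = _ := by rw [((D.memW _).1 h.2).2.eq]; group
  have hexp : ∀ v, g v = ∑ γ : IrrCharacter D.W, (m γ : ℂ) * (γ : D.W → ℂ) v := fun v =>
    (classFunction_expand_apply hcl v).trans (Finset.sum_congr rfl fun γ _ => by rw [hm])
  have hgg : classInner g g = 1 := by
    rw [classInner_def, inv_mul_eq_one₀ (Nat.cast_ne_zero.2 Nat.card_pos.ne'), ← Complex.ofReal_natCast, ← hsum,
      Complex.ofReal_sum]
    exact Finset.sum_congr rfl fun v _ => (Complex.mul_conj _).symm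
  have hsq : ∑ γ : IrrCharacter D.W, m γ * m γ = 1 := by
    apply Int.cast_injective (α := ℂ)
    push_cast
    rw [← hgg]
    conv_rhs => rw [show g = ∑ γ : IrrCharacter D.W, (m γ : ℂ) • (γ : D.W → ℂ) from
      funext fun v => by rw [Finset.sum_apply]; exact hexp v]
    rw [classInner_sum_left]
    refine Finset.sum_congr rfl fun γ _ => ?_
    rw [classInner_smul_left]
    congr 1
    rw [← classInner_conj_symm, show (∑ γ : IrrCharacter D.W, (m γ : ℂ) • (γ : D.W → ℂ)) = g from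
      funext fun v => by rw [Finset.sum_apply]; exact (hexp v).symm, hm, map_intCast]
  obtain ⟨γ, -, hγ⟩ := Finset.exists_ne_zero_of_sum_ne_zero (hsq.trans_ne one_ne_zero)
  have hp := Finset.add_sum_erase Finset.univ (fun γ => m γ * m γ) (Finset.mem_univ γ)
  rw [hsq] at hp
  have hpos : 0 < m γ * m γ := lt_of_le_of_ne (mul_self_nonneg _) (Ne.symm hγ)
  have hrest : ∀ δ ∈ Finset.univ.erase γ, m δ = 0 := fun δ hδ =>
    mul_self_eq_zero.1 ((Finset.sum_eq_zero_iff_of_nonneg fun x _ => mul_self_nonneg (m x)).1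
      (le_antisymm (by linarith) (Finset.sum_nonneg fun x _ => mul_self_nonneg (m x))) δ hδ)
  have hone : m γ * m γ = 1 := by
    rw [Finset.sum_eq_zero fun δ hδ => by rw [hrest δ hδ, zero_mul], add_zero] at hp
    exact hp
  have hgv : ∀ v, g v = (m γ : ℂ) * (γ : D.W → ℂ) v := fun v => by
    rw [hexp v, Finset.sum_eq_single γ
      (fun δ _ hδ => by rw [hrest δ (Finset.mem_erase.2 ⟨hδ, Finset.mem_univ δ⟩), Int.cast_zero, zero_mul])
      (fun h => absurd (Finset.mem_univ _) h)]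
  -- residues
  obtain ⟨β, hβ, hβv⟩ := D.exists_corr hM θ hθ
  have hβψ : β = D.lin ψ :=
    (Glauberman.existsUnique_corr D.actU_isPGroup D.odd_card_O D.actU_fixed (D.inv_actU hθ)).unique hβ hψ
  have hpm : m γ = 1 ∨ m γ = -1 := mul_self_eq_one_iff.1 hone
  have hr : ∀ v, res M ((γ : D.W → ℂ) v) = res M ((D.lin ψ : D.W → ℂ) v) := by
    intro v
    have h1 : res M (g v) = res M ((θ : D.O → ℂ) (D.ιW v)) := by
      rw [hg, res_translate (G := D.C) hM (isCharacter_of_irr ξ.2) (Subtype.ext D.u2)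
        (Subtype.ext ((D.memW _).1 v.2).2.eq) (by rw [← Subgroup.orderOf_coe]; exact D.odd_O (D.W_le_O v.2))]
      exact congrArg (res M) (congrFun hres (D.ιW v))
    rw [← hβψ, ← hβv v, ← h1, hgv v]
    rw [res_mul (intCast_mem_place _) (apply_mem_place hM (isCharacter_of_irr γ.2) _), res_intCast]
    rcases hpm with h | h <;> simp [h, CharTwo.neg_eq]
  have hγψ : γ = D.lin ψ := by
    by_contra hne
    have key : ∀ δ : IrrCharacter D.W,
        ∑ v : D.W, res M (conj ((D.lin ψ : D.W → ℂ) v)) * res M ((δ : D.W → ℂ) v) =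
          if δ = D.lin ψ then 1 else 0 := by
      intro δ
      have hc : ∀ v : D.W, conj ((D.lin ψ : D.W → ℂ) v) ∈ place M := fun v => by
        rw [← IsCharacter.conj_inv (isCharacter_of_irr (D.lin ψ).2)]
        exact apply_mem_place hM (isCharacter_of_irr (D.lin ψ).2) _
      rw [Finset.sum_congr rfl fun v _ => (res_mul (hc v) (apply_mem_place hM (isCharacter_of_irr δ.2) v)).symm,
        ← res_sum _ _ fun v _ => mul_mem (hc v) (apply_mem_place hM (isCharacter_of_irr δ.2) v)]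
      have h1 := classInner_irrCharacter δ (D.lin ψ)
      rw [classInner_def, inv_mul_eq_iff_eq_mul₀ (Nat.cast_ne_zero.2 Nat.card_pos.ne')] at h1
      rw [Finset.sum_congr rfl (g := fun v : D.W => (δ : D.W → ℂ) v * conj ((D.lin ψ : D.W → ℂ) v))
        fun v _ => mul_comm _ _, h1]
      split_ifs
      · rw [mul_one, res_natCast]
        obtain ⟨k, hk⟩ := Nat.not_even_iff_odd.1 fun h2 => D.odd_card_W (even_iff_two_dvd.1 h2)
        rw [hk, Nat.cast_add, Nat.cast_mul, Nat.cast_ofNat, CharTwo.two_eq_zero, zero_mul, zero_add, Nat.cast_one]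
      · rw [mul_zero, res_zero]
    have h2 := key γ
    simp only [hr, key, if_pos rfl, if_neg hne] at h2
    exact one_ne_zero h2
  have h1 := hgv 1
  rw [hg, hγψ] at h1
  simp only [map_one, mul_one] at h1
  rw [h1, show (D.lin ψ : D.W → ℂ) 1 = 1 by simp [lin], mul_one, pow_two, ← Int.cast_mul, ← hγψ, hone,
    Int.cast_one]

/-- The class identity. -/
theorem sum_sq_mu (θ : IrrCharacter D.O) (ξ : IrrCharacter D.C)
    (hres : D.resO (ξ : D.C → ℂ) = (θ : D.O → ℂ)) (hu : ((ξ : D.C → ℂ) ⟨D.u, D.u_mem_C⟩) ^ 2 = 1) :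
    ∑ χ : IrrCharacter G, (χ : G → ℂ) D.t ^ 2 * (D.mu χ θ : ℂ) / (χ : G → ℂ) 1 =
      32 * (Nat.card D.O : ℂ) ^ 3 /
        ((Nat.card D.W : ℂ) ^ 2 * (deg (θ : D.O → ℂ) : ℂ) * (Nat.card G : ℂ)) := by
  classical
  set F : G → ℂ := fun g => if h : g ∈ D.C then (ξ : D.C → ℂ) ⟨g, h⟩ else 0 with hF
  have hFC : ∀ x : D.C, F x = (ξ : D.C → ℂ) x := fun x => dif_pos x.2
  have hFO : ∀ y : D.O, F y = (θ : D.O → ℂ) y := fun y => by
    rw [← congrFun hres y]; exact dif_pos (D.O_le_C y.2)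
  set k : ℂ := (Nat.card {x : G // IsConj D.t x} : ℂ) with hk'
  set S : ℂ := ∑ χ : IrrCharacter G, (χ : G → ℂ) D.t ^ 2 * (D.mu χ θ : ℂ) / (χ : G → ℂ) 1 with hS
  set O' : ℂ := (Nat.card D.O : ℂ) with hO'
  have hO0 : O' ≠ 0 := Nat.cast_ne_zero.2 Nat.card_pos.ne'
  have hmu : ∀ χ : IrrCharacter G,
      ∑ y : D.O, conj ((χ : G → ℂ) (D.t * y)) * (θ : D.O → ℂ) y = O' * (D.mu χ θ : ℂ) := by
    intro χ
    have h := congrArg conj (D.mu_spec χ θ)
    rw [classInner_def, map_intCast, map_mul, map_inv₀, map_sum, Complex.conj_natCast] at h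
    simp only [map_mul, Complex.conj_conj] at h
    rw [← h, ← mul_assoc, mul_inv_cancel₀ hO0, one_mul]
  have hA : k * k / (Nat.card G : ℂ) * (O' * S) =
      2 * ((D.invSet.card : ℂ) ^ 2 / (deg (θ : D.O → ℂ) : ℂ)) := by
    have h := D.sum_pairs F
    rw [D.sum_invSet ξ F hFC, hu, mul_one,
      show (ξ : D.C → ℂ) 1 = (deg (θ : D.O → ℂ) : ℂ) by
        rw [← irr_apply_one_eq_deg, ← congrFun hres 1, resO, map_one]] at h
    rw [← h, Finset.sum_congr rfl fun y _ => by rw [class_mult_formula, hFO], hS, Finset.mul_sum, Finset.mul_sum]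
    simp only [Finset.mul_sum, Finset.sum_mul]
    conv_rhs => rw [Finset.sum_comm]
    refine Finset.sum_congr rfl fun χ _ => ?_
    rw [Finset.sum_congr rfl (g := fun y : D.O => (k * k / (Nat.card G : ℂ) * ((χ : G → ℂ) D.t ^ 2 / (χ : G → ℂ) 1)) *
      (conj ((χ : G → ℂ) (D.t * y)) * (θ : D.O → ℂ) y)) fun y _ => by rw [hk']; ring, ← Finset.mul_sum, hmu χ]
    ring
  have hkC : k * (4 * O') = (Nat.card G : ℂ) := by
    have h := card_isConj_mul D.t
    rw [show Subgroup.centralizer ({D.t} : Set G) = D.C from rfl, D.card_C] at h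
    rw [← h, hk', hO']
    push_cast
    ring
  have hI : (D.invSet.card : ℂ) * (Nat.card D.W : ℂ) = O' := by rw [hO', ← D.card_invSet]; push_cast; ring
  have hW0 : (Nat.card D.W : ℂ) ≠ 0 := Nat.cast_ne_zero.2 Nat.card_pos.ne'
  have hd0 : (deg (θ : D.O → ℂ) : ℂ) ≠ 0 := Nat.cast_ne_zero.2 (deg_irr_pos θ).ne'
  have hG0 : (Nat.card G : ℂ) ≠ 0 := Nat.cast_ne_zero.2 Nat.card_pos.ne'
  have hk1 : k = (Nat.card G : ℂ) / (4 * O') := by
    rw [eq_div_iff (mul_ne_zero (by norm_num : (4 : ℂ) ≠ 0) hO0), hkC]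
  have hI1 : (D.invSet.card : ℂ) = O' / (Nat.card D.W : ℂ) := by rw [eq_div_iff hW0, hI]
  rw [hk1, hI1] at hA
  field_simp at hA ⊢
  linear_combination hA

end Data

end Cfsg.Lib.GW.Chr
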