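import Cfsg.Agent.Blocks.KleinFourOrder
import Cfsg.Agent.Blocks.CentralTwo
import Cfsg.Agent.Chars.Gallagher

/-!
# Characters of a group with four-group Sylow 2-subgroups: the data

`t`, `u` generate a Sylow four-group, `σ` permutes `t → u → tu`, `O` is the set of elements of odd order commuting
with `t` and `W` the part of `O` commuting with `u`.
-/

set_option autoImplicit false
set_option linter.unusedSectionVars false
set_option linter.style.haveILetI false

namespace Cfsg.Lib.GW.Chr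

open Cfsg Cfsg.Lib.Chars Cfsg.Lib.Blocks
open scoped ComplexConjugate

universe u

variable {G : Type u} [Group G]

/-- The data. -/
structure Data (G : Type u) [Group G] where
  t : G
  u : G
  σ : G
  O : Subgroup G
  W : Subgroup G
  P : Sylow 2 G
  t2 : t * t = 1
  t1 : t ≠ 1
  u2 : u * u = 1
  u1 : u ≠ 1
  tneu : t ≠ u
  tu : Commute t u
  memP : ∀ q : G, q ∈ (P : Subgroup G) ↔ q = 1 ∨ q = t ∨ q = u ∨ q = t * u
  σt : σ * t * σ⁻¹ = u
  σu : σ * u * σ⁻¹ = t * u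
  memO : ∀ y : G, y ∈ O ↔ Commute t y ∧ ¬ 2 ∣ orderOf y
  memW : ∀ y : G, y ∈ W ↔ y ∈ O ∧ Commute u y

namespace Data

variable (D : Data G)

/-- The centraliser of `t`. -/
def C : Subgroup G := Subgroup.centralizer ({D.t} : Set G)

/-- The centraliser of `t` and `u`. -/
def E : Subgroup G := Subgroup.centralizer ({D.t, D.u} : Set G)

theorem t_order : orderOf D.t = 2 := orderOf_eq_prime (by rw [pow_two, D.t2]) D.t1

theorem u_order : orderOf D.u = 2 := orderOf_eq_prime (by rw [pow_two, D.u2]) D.u1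

theorem mem_C {x : G} : x ∈ D.C ↔ Commute D.t x :=
  ⟨fun h => (Subgroup.mem_centralizer_singleton_iff.1 h).symm,
    fun h => Subgroup.mem_centralizer_singleton_iff.2 h.symm.eq⟩

theorem mem_E {x : G} : x ∈ D.E ↔ Commute D.t x ∧ Commute D.u x := by
  simp [E, Subgroup.mem_centralizer_iff, Commute, SemiconjBy]

theorem tP : D.t ∈ (D.P : Subgroup G) := (D.memP _).2 (by simp)

theorem uP : D.u ∈ (D.P : Subgroup G) := (D.memP _).2 (by simp)

theorem u_mul_u (a : G) : D.u * (D.u * a) = a := by rw [← mul_assoc, D.u2, one_mul]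

theorem t_mul_t (a : G) : D.t * (D.t * a) = a := by rw [← mul_assoc, D.t2, one_mul]

theorem exp_P : ∀ q ∈ (D.P : Subgroup G), q * q = 1 := by
  intro q hq
  rcases (D.memP q).1 hq with rfl | rfl | rfl | rfl
  · exact one_mul 1
  · exact D.t2
  · exact D.u2
  · rw [show D.t * D.u * (D.t * D.u) = D.t * D.u * (D.u * D.t) by rw [D.tu.eq], mul_assoc, D.u_mul_u, D.t2]

theorem card_P : Nat.card (D.P : Subgroup G) = 4 := by
  classical
  have h : ((D.P : Subgroup G) : Set G) = ↑({1, D.t, D.u, D.t * D.u} : Finset G) := by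
    ext q
    rw [SetLike.mem_coe, D.memP]
    simp
  rw [show Nat.card (D.P : Subgroup G) = Nat.card ((D.P : Subgroup G) : Set G) from rfl, h,
    Nat.card_coe_set_eq, Set.ncard_coe_finset]
  have htu1 : D.t * D.u ≠ 1 := fun e => D.tneu (by rw [← inv_eq_of_mul_eq_one_right e,
    inv_eq_of_mul_eq_one_right D.t2])
  rw [Finset.card_insert_of_notMem (by simp [D.t1.symm, D.u1.symm, htu1.symm]),
    Finset.card_insert_of_notMem (by simp [D.tneu, D.u1]),
    Finset.card_insert_of_notMem (by simp [D.t1]), Finset.card_singleton]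

theorem conj_mem_O {c y : G} (hc : Commute D.t c) (hy : y ∈ D.O) : c * y * c⁻¹ ∈ D.O := by
  obtain ⟨h1, h2⟩ := (D.memO y).1 hy
  refine (D.memO _).2 ⟨(hc.mul_right h1).mul_right hc.inv_right, ?_⟩
  rwa [show c * y * c⁻¹ = MulAut.conj c y from rfl, MulEquiv.orderOf_eq]

theorem commute_t {y : G} (hy : y ∈ D.O) : Commute D.t y := ((D.memO y).1 hy).1

theorem odd_O {y : G} (hy : y ∈ D.O) : ¬ 2 ∣ orderOf y := ((D.memO y).1 hy).2

theorem O_le_C : D.O ≤ D.C := fun _ hy => D.mem_C.2 (D.commute_t hy)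

theorem W_le_O : D.W ≤ D.O := fun _ hy => ((D.memW _).1 hy).1

theorem W_le_E : D.W ≤ D.E := fun _ hy => D.mem_E.2 ⟨D.commute_t (D.W_le_O hy), ((D.memW _).1 hy).2⟩

theorem t_mem_C : D.t ∈ D.C := D.mem_C.2 (Commute.refl _)

theorem u_mem_C : D.u ∈ D.C := D.mem_C.2 D.tu

/-- Conjugation by `u` on `O`. -/
def cu (y : D.O) : D.O := ⟨D.u * (y : G) * D.u⁻¹, D.conj_mem_O D.tu y.2⟩

theorem uinv : D.u⁻¹ = D.u := inv_eq_of_mul_eq_one_right D.u2

theorem tinv : D.t⁻¹ = D.t := inv_eq_of_mul_eq_one_right D.t2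

theorem cu_cu (y : D.O) : D.cu (D.cu y) = y := Subtype.ext (by
  simp only [cu, D.uinv, mul_assoc, D.u2, mul_one, D.u_mul_u])

theorem cu_eq_self_iff (y : D.O) : D.cu y = y ↔ (y : G) ∈ D.W := by
  rw [D.memW, and_iff_right y.2, Subtype.ext_iff]
  show D.u * (y : G) * D.u⁻¹ = y ↔ _
  exact mul_inv_eq_iff_eq_mul

/-- A function on `O` invariant under `u`. -/
def Inv (f : D.O → ℂ) : Prop := ∀ y, f (D.cu y) = f y

theorem σ_conj_mem_W {v : G} (hv : v ∈ D.W) : D.σ * v * D.σ⁻¹ ∈ D.W := by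
  obtain ⟨hvO, hvu⟩ := (D.memW v).1 hv
  have h : ∀ s : G, Commute s v → Commute (D.σ * s * D.σ⁻¹) (D.σ * v * D.σ⁻¹) :=
    fun s hs => hs.map (MulAut.conj D.σ).toMonoidHom
  have h1 := h _ (D.commute_t hvO)
  have h2 := h _ hvu
  rw [D.σt] at h1
  rw [D.σu] at h2
  have h3 : Commute D.t (D.σ * v * D.σ⁻¹) := by
    have h4 := h2.mul_left h1
    rwa [mul_assoc, D.u2, mul_one] at h4
  refine (D.memW _).2 ⟨(D.memO _).2 ⟨h3, ?_⟩, h1⟩
  rw [show D.σ * v * D.σ⁻¹ = MulAut.conj D.σ v from rfl, MulEquiv.orderOf_eq]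
  exact D.odd_O hvO

/-- `σ` acting on `W`. -/
def cσ : ↥D.W →* ↥D.W where
  toFun v := ⟨D.σ * (v : G) * D.σ⁻¹, D.σ_conj_mem_W v.2⟩
  map_one' := Subtype.ext (by simp)
  map_mul' a b := Subtype.ext (by simp [mul_assoc])

theorem cσ_pow_coe (i : ℕ) (v : D.W) : ((D.cσ^[i] v : D.W) : G) = D.σ ^ i * (v : G) * (D.σ ^ i)⁻¹ := by
  induction i generalizing v with
  | zero => simp
  | succ n ih =>
    rw [Function.iterate_succ_apply, ih, pow_succ]
    simp [cσ, mul_assoc]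

section Finite

variable [Finite G]

theorem odd_card_O : ¬ 2 ∣ Nat.card D.O := by
  intro h
  haveI : Fact (Nat.Prime 2) := ⟨Nat.prime_two⟩
  obtain ⟨y, hy⟩ := exists_prime_orderOf_dvd_card' 2 h
  rw [← Subgroup.orderOf_coe] at hy
  exact D.odd_O y.2 (dvd_of_eq hy.symm)

theorem odd_card_W : ¬ 2 ∣ Nat.card D.W := fun h =>
  D.odd_card_O (h.trans (Subgroup.card_dvd_of_le D.W_le_O))

theorem exists_mul_mem {c : G} (hc : Commute D.t c) : ∃ q ∈ (D.P : Subgroup G), c * q ∈ D.O := by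
  letI := Fintype.ofFinite G
  obtain ⟨L, hL, -, -, hdec⟩ := exists_odd_part D.P D.card_P D.exp_P D.tP D.t1
  obtain ⟨q, hq, hcq⟩ := hdec c hc
  exact ⟨q, hq, (D.memO _).2 ((hL _).1 hcq)⟩

theorem card_C : Nat.card D.C = 4 * Nat.card D.O := by
  letI := Fintype.ofFinite G
  obtain ⟨L, hL, hc, -, -⟩ := exists_odd_part D.P D.card_P D.exp_P D.tP D.t1
  rw [show D.O = L by ext y; rw [hL, D.memO]]
  exact hc.symm

/-- The involutions form one class. -/
theorem isConj_t {s : G} (hs : orderOf s = 2) : IsConj D.t s := by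
  haveI : Fact (Nat.Prime 2) := ⟨Nat.prime_two⟩
  have hp : IsPGroup 2 (Subgroup.zpowers s) :=
    IsPGroup.of_card (n := 1) (by rw [Nat.card_zpowers, hs, pow_one])
  obtain ⟨S, hS⟩ := hp.exists_le_sylow
  obtain ⟨g, hg⟩ := MulAction.exists_smul_eq G S D.P
  have hmem : g * s * g⁻¹ ∈ (D.P : Subgroup G) := by
    rw [← hg, Sylow.coe_subgroup_smul]
    exact Subgroup.mem_map.2 ⟨s, hS (Subgroup.mem_zpowers s), rfl⟩
  have ht2 : IsConj D.t (D.t * D.u) := by
    have : IsConj D.u (D.t * D.u) := isConj_iff.2 ⟨D.σ, D.σu⟩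
    exact (isConj_iff.2 ⟨D.σ, D.σt⟩ : IsConj D.t D.u).trans this
  refine IsConj.trans ?_ (isConj_iff.2 ⟨g⁻¹, by group⟩ : IsConj (g * s * g⁻¹) s)
  rcases (D.memP _).1 hmem with e | e | e | e
  · exfalso
    have h0 : orderOf (g * s * g⁻¹) = 2 := by
      rw [show g * s * g⁻¹ = MulAut.conj g s from rfl, MulEquiv.orderOf_eq, hs]
    rw [e, orderOf_one] at h0
    omega
  · rw [e]
  · rw [e]; exact isConj_iff.2 ⟨D.σ, D.σt⟩
  · rw [e]; exact ht2

end Finite

end Data

end Cfsg.Lib.GW.Chr
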