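import Cfsg.Agent.FourGroupGW.Chars.Parity

/-!
# Classes of `G` on `W`

Two elements of `W` conjugate in `G` are conjugate in the normaliser of the four-group, which is the product of the
powers of `σ`, `W` and the four-group.
-/

set_option autoImplicit false
set_option linter.unusedSectionVars false
set_option linter.style.haveILetI false

namespace Cfsg.Lib.GW.Chr

open Cfsg Cfsg.Lib.Chars Cfsg.Lib.Blocks
open scoped ComplexConjugate

universe u

variable {G : Type u} [Group G] [Fintype G] {M : Ideal AlgInt}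

namespace Data

variable (D : Data G)

/-- The normaliser of the four-group. -/
def NP : Subgroup G := Subgroup.normalizer ((D.P : Subgroup G) : Set G)

theorem conj_P {g q : G} (hg : g ∈ D.NP) (hq : q ∈ (D.P : Subgroup G)) :
    g * q * g⁻¹ ∈ (D.P : Subgroup G) := (Subgroup.mem_normalizer_iff.1 hg q).1 hq

theorem tu_ne_one : D.t * D.u ≠ 1 := fun e => D.tneu (by
  rw [← D.tinv, inv_eq_of_mul_eq_one_right e])

theorem tu_ne_t : D.t * D.u ≠ D.t := fun e => D.u1 (mul_eq_left.1 e)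

theorem σ2t : D.σ ^ 2 * D.t * (D.σ ^ 2)⁻¹ = D.t * D.u := by
  rw [pow_two, mul_inv_rev, ← D.σu, ← D.σt]; group

theorem σ_mem_NP : D.σ ∈ D.NP := by
  haveI : Finite ((D.P : Subgroup G) : Set G) := Subtype.finite
  refine Subgroup.mem_normalizer_iff.2 fun q => ?_
  have hfwd : ∀ x ∈ (D.P : Subgroup G), D.σ * x * D.σ⁻¹ ∈ (D.P : Subgroup G) := by
    intro x hx
    rcases (D.memP x).1 hx with rfl | rfl | rfl | rfl
    · simp [one_mem]
    · rw [D.σt]; exact D.uP
    · rw [D.σu]; exact mul_mem D.tP D.uP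
    · rw [show D.σ * (D.t * D.u) * D.σ⁻¹ = D.σ * D.t * D.σ⁻¹ * (D.σ * D.u * D.σ⁻¹) by group, D.σt, D.σu]
      exact mul_mem D.uP (mul_mem D.tP D.uP)
  refine ⟨hfwd q, fun h => ?_⟩
  have hsurj : Function.Surjective
      (fun x : (D.P : Subgroup G) => (⟨D.σ * x * D.σ⁻¹, hfwd x x.2⟩ : (D.P : Subgroup G))) :=
    Finite.injective_iff_surjective.1 fun a b e => Subtype.ext (by simpa using congrArg Subtype.val e)
  obtain ⟨x, hx⟩ := hsurj ⟨_, h⟩
  have : (x : G) = q := by simpa using congrArg Subtype.val hx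
  exact this ▸ x.2

theorem commute_P_W {x v : G} (hx : x ∈ (D.P : Subgroup G)) (hv : v ∈ D.W) : Commute x v := by
  obtain ⟨hvO, hvu⟩ := (D.memW v).1 hv
  rcases (D.memP x).1 hx with rfl | rfl | rfl | rfl
  · exact Commute.one_left v
  · exact D.commute_t hvO
  · exact hvu
  · exact (D.commute_t hvO).mul_left hvu

theorem W_le_NP : D.W ≤ D.NP := fun _ hv =>
  Subgroup.centralizer_le_normalizer _ (Subgroup.mem_centralizer_iff.2 fun _ hx => (D.commute_P_W hx hv).eq)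

theorem P_le_NP : (D.P : Subgroup G) ≤ D.NP := Subgroup.le_normalizer

/-- An element of the normaliser fixing `t` is a product from `W` and the four-group. -/
theorem exists_of_fix {g : G} (hg : g ∈ D.NP) (hgt : g * D.t * g⁻¹ = D.t) :
    ∃ c ∈ D.W, ∃ q ∈ (D.P : Subgroup G), g = c * q := by
  have hct : Commute g D.t := mul_inv_eq_iff_eq_mul.1 hgt
  have hab : ∀ a ∈ (D.P : Subgroup G), ∀ b ∈ (D.P : Subgroup G), Commute a b :=
    fun a ha b hb => commute_of_sq_eq_one D.exp_P ha hb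
  have hfu : ∀ h : G, h ∈ D.NP → Commute h D.t →
      h * D.u * h⁻¹ = D.u ∨ h * D.u * h⁻¹ = D.t * D.u := by
    intro h hh hht
    rcases (D.memP _).1 (D.conj_P hh D.uP) with e | e | e | e
    · exfalso
      refine D.u1 ?_
      have := congrArg (fun z => h⁻¹ * z * h) e
      simpa [mul_assoc] using this
    · exfalso
      refine D.tneu ?_
      have := congrArg (fun z => h⁻¹ * z * h) e
      simp only [← mul_assoc, inv_mul_cancel, one_mul, inv_mul_cancel_right] at this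
      rw [this, mul_assoc, ← hht.eq, ← mul_assoc, inv_mul_cancel, one_mul]
    · exact Or.inl e
    · exact Or.inr e
  have hcu : Commute g D.u := by
    refine commute_of_sq hab hg D.uP (mul_inv_eq_iff_eq_mul.1 ?_)
    have he : g * g * D.u * (g * g)⁻¹ = g * (g * D.u * g⁻¹) * g⁻¹ := by group
    rw [he]
    rcases hfu g hg hct with e | e
    · rw [e, e]
    · rw [e, show g * (D.t * D.u) * g⁻¹ = g * D.t * g⁻¹ * (g * D.u * g⁻¹) by group, hgt, e, D.t_mul_t]
  obtain ⟨q, hq, ho⟩ := D.exists_mul_mem hct.symm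
  have hqu : Commute D.u (g * q) := hcu.symm.mul_right (hab _ D.uP _ hq)
  exact ⟨g * q, (D.memW _).2 ⟨ho, hqu⟩, q, hq, by rw [mul_assoc, D.exp_P q hq, mul_one]⟩

/-- The normal form in the normaliser. -/
theorem exists_form {g : G} (hg : g ∈ D.NP) :
    ∃ i : Fin 3, ∃ c ∈ D.W, ∃ q ∈ (D.P : Subgroup G), g = D.σ ^ (i : ℕ) * (c * q) := by
  have key : ∀ i : Fin 3, g * D.t * g⁻¹ = D.σ ^ (i : ℕ) * D.t * (D.σ ^ (i : ℕ))⁻¹ →
      ∃ i : Fin 3, ∃ c ∈ D.W, ∃ q ∈ (D.P : Subgroup G), g = D.σ ^ (i : ℕ) * (c * q) := by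
    intro i h
    obtain ⟨c, hc, q, hq, e⟩ := D.exists_of_fix (mul_mem (inv_mem (pow_mem D.σ_mem_NP (i : ℕ))) hg) (by
      calc (D.σ ^ (i : ℕ))⁻¹ * g * D.t * ((D.σ ^ (i : ℕ))⁻¹ * g)⁻¹
          = (D.σ ^ (i : ℕ))⁻¹ * (g * D.t * g⁻¹) * D.σ ^ (i : ℕ) := by group
        _ = D.t := by rw [h]; group)
    exact ⟨i, c, hc, q, hq, by rw [← e, mul_inv_cancel_left]⟩
  rcases (D.memP _).1 (D.conj_P hg D.tP) with e | e | e | e
  · exfalso
    refine D.t1 ?_
    have := congrArg (fun z => g⁻¹ * z * g) e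
    simpa [mul_assoc] using this
  · exact key 0 (by rw [e]; simp)
  · exact key 1 (by rw [e, show ((1 : Fin 3) : ℕ) = 1 from rfl, pow_one, D.σt])
  · exact key 2 (by rw [e, show ((2 : Fin 3) : ℕ) = 2 from rfl, D.σ2t])

theorem form_fix {i : Fin 3} {c q : G} (hc : c ∈ D.W) (hq : q ∈ (D.P : Subgroup G)) :
    D.σ ^ (i : ℕ) * (c * q) * D.t * (D.σ ^ (i : ℕ) * (c * q))⁻¹ = D.σ ^ (i : ℕ) * D.t * (D.σ ^ (i : ℕ))⁻¹ := by
  have h1 : c * q * D.t * (c * q)⁻¹ = D.t := mul_inv_eq_iff_eq_mul.2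
    (((D.commute_P_W D.tP hc).mul_right (commute_of_sq_eq_one D.exp_P D.tP hq)).eq.symm)
  calc _ = D.σ ^ (i : ℕ) * (c * q * D.t * (c * q)⁻¹) * (D.σ ^ (i : ℕ))⁻¹ := by group
    _ = _ := by rw [h1]

/-- The parametrisation of the normaliser. -/
def formMap (x : Fin 3 × ↥D.W × ↥(D.P : Subgroup G)) : G := D.σ ^ (x.1 : ℕ) * ((x.2.1 : G) * (x.2.2 : G))

theorem formMap_injective : Function.Injective D.formMap := by
  rintro ⟨i, c, q⟩ ⟨j, d, r⟩ h
  simp only [formMap] at h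
  have hij : i = j := by
    have h1 := congrArg (fun z => z * D.t * z⁻¹) h
    simp only [D.form_fix c.2 q.2, D.form_fix d.2 r.2] at h1
    have hn := D.tneu
    have hn2 := D.tu_ne_t
    have hn3 : D.t * D.u ≠ D.u := fun e => D.t1 (mul_eq_right.1 e)
    fin_cases i <;> fin_cases j <;> first
      | rfl
      | (exfalso
         simp only [show ((0 : Fin 3) : ℕ) = 0 from rfl, show ((1 : Fin 3) : ℕ) = 1 from rfl,
           show ((2 : Fin 3) : ℕ) = 2 from rfl, pow_zero, one_mul, inv_one, mul_one, pow_one, D.σt,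
           D.σ2t] at h1
         first
           | exact hn h1
           | exact hn h1.symm
           | exact hn2 h1
           | exact hn2 h1.symm
           | exact hn3 h1
           | exact hn3 h1.symm)
  subst hij
  have h2 := mul_left_cancel h
  have h3 : (d : G)⁻¹ * c = (r : G) * (q : G)⁻¹ := by
    rw [eq_mul_inv_iff_mul_eq, mul_assoc, h2, inv_mul_cancel_left]
  have h4 : (d : G)⁻¹ * c = 1 := by
    by_contra hne
    refine D.odd_O (D.W_le_O (mul_mem (inv_mem d.2) c.2)) (dvd_of_eq ?_)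
    refine (orderOf_eq_prime (p := 2) ?_ hne).symm
    rw [pow_two, h3]
    exact D.exp_P _ (mul_mem r.2 (inv_mem q.2))
  have hcd : (c : G) = d := (inv_mul_eq_one.1 h4).symm
  rw [Prod.mk.injEq, Prod.mk.injEq]
  refine ⟨rfl, Subtype.ext hcd, Subtype.ext ?_⟩
  rw [hcd] at h2
  exact mul_left_cancel h2

theorem mem_NP_iff (g : G) : g ∈ D.NP ↔ ∃ x, D.formMap x = g := by
  constructor
  · intro h
    obtain ⟨i, c, hc, q, hq, rfl⟩ := D.exists_form h
    exact ⟨(i, ⟨c, hc⟩, ⟨q, hq⟩), rfl⟩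
  · rintro ⟨x, rfl⟩
    exact mul_mem (pow_mem D.σ_mem_NP _) (mul_mem (D.W_le_NP x.2.1.2) (D.P_le_NP x.2.2.2))

theorem formMap_conj (x : Fin 3 × ↥D.W × ↥(D.P : Subgroup G)) (v : D.W) :
    D.formMap x * v * (D.formMap x)⁻¹ = ((D.cσ^[(x.1 : ℕ)] (x.2.1 * v * x.2.1⁻¹) : D.W) : G) := by
  rw [D.cσ_pow_coe, formMap]
  push_cast
  have hq : (x.2.2 : G) * v * (x.2.2 : G)⁻¹ = v := by
    rw [(D.commute_P_W x.2.2.2 v.2).eq, mul_inv_cancel_right]
  calc _ = D.σ ^ (x.1 : ℕ) * ((x.2.1 : G) * ((x.2.2 : G) * v * (x.2.2 : G)⁻¹) * (x.2.1 : G)⁻¹) *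
        (D.σ ^ (x.1 : ℕ))⁻¹ := by group
    _ = _ := by rw [hq]

theorem conj_mem_W {g : G} (hg : g ∈ D.NP) {v : G} (hv : v ∈ D.W) : g * v * g⁻¹ ∈ D.W := by
  obtain ⟨x, rfl⟩ := (D.mem_NP_iff g).1 hg
  exact (D.formMap_conj x ⟨v, hv⟩).symm ▸ SetLike.coe_mem _

/-- Conjugate elements of `W` are conjugate in the normaliser of the four-group. -/
theorem exists_conj_NP {v w : G} (hv : v ∈ D.W) (hw : w ∈ D.W) (h : IsConj v w) :
    ∃ n ∈ D.NP, n * v * n⁻¹ = w := by
  haveI : Fact (Nat.Prime 2) := ⟨Nat.prime_two⟩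
  obtain ⟨g, hg⟩ := isConj_iff.1 h
  set K := Subgroup.centralizer ({w} : Set G) with hK
  have hP1 : (D.P : Subgroup G) ≤ K := fun x hx =>
    Subgroup.mem_centralizer_singleton_iff.2 (D.commute_P_W hx hw).eq
  have hP2 : ((g • D.P : Sylow 2 G) : Subgroup G) ≤ K := by
    rw [Sylow.coe_subgroup_smul]
    rintro _ ⟨x, hx, rfl⟩
    refine Subgroup.mem_centralizer_singleton_iff.2 ?_
    rw [← hg]
    exact ((D.commute_P_W hx hv).map (MulAut.conj g).toMonoidHom).eq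
  obtain ⟨k, hk⟩ := MulAction.exists_smul_eq K ((g • D.P).subtype hP2) (D.P.subtype hP1)
  rw [Sylow.smul_subtype] at hk
  have hk' := Sylow.subtype_injective hk
  refine ⟨(k : G) * g, Sylow.smul_eq_iff_mem_normalizer.1 ((mul_smul _ _ _).trans hk'), ?_⟩
  calc (k : G) * g * v * ((k : G) * g)⁻¹ = (k : G) * (g * v * g⁻¹) * (k : G)⁻¹ := by group
    _ = w := by rw [hg, Subgroup.mem_centralizer_singleton_iff.1 k.2, mul_inv_cancel_right]

/-- Modulo two, a class sum on `W` is the sum over three translates by `σ`. -/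
theorem orbit_sum [Fintype D.W] (hM : IsPModular 2 M) {f : D.W → Res M}
    (hf : ∀ a c : D.W, f (c * a * c⁻¹) = f a) (v : D.W) [DecidablePred fun w : D.W => IsConj (v : G) (w : G)] :
    ∑ w ∈ Finset.univ.filter (fun w : D.W => IsConj (v : G) (w : G)), f w =
      ∑ i : Fin 3, f (D.cσ^[(i : ℕ)] v) := by
  classical
  haveI := charP_res hM
  haveI : Fact (Nat.Prime 2) := ⟨Nat.prime_two⟩
  set S : Subgroup ↥D.NP := Subgroup.centralizer {(⟨(v : G), D.W_le_NP v.2⟩ : ↥D.NP)} with hS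
  set P' : Subgroup ↥D.NP := (D.P : Subgroup G).subgroupOf D.NP with hP'
  have hPS : P' ≤ S := fun x hx => Subgroup.mem_centralizer_singleton_iff.2
    (Subtype.ext (D.commute_P_W (Subgroup.mem_subgroupOf.1 hx) v.2).eq)
  have hP4 : Nat.card P' = 4 := by
    rw [Nat.card_congr (Subgroup.subgroupOfEquivOfLe D.P_le_NP).toEquiv, D.card_P]
  obtain ⟨r, hr⟩ := Subgroup.card_dvd_of_le hPS
  rw [hP4] at hr
  have hcardN : Nat.card D.NP = 4 * (3 * Nat.card D.W) := by
    have e : Nat.card (Fin 3 × ↥D.W × ↥(D.P : Subgroup G)) = Nat.card D.NP :=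
      Nat.card_congr (Equiv.ofBijective (fun x => (⟨D.formMap x, (D.mem_NP_iff _).2 ⟨x, rfl⟩⟩ : ↥D.NP))
        ⟨fun a b h => D.formMap_injective (congrArg Subtype.val h), fun g => by
          obtain ⟨x, hx⟩ := (D.mem_NP_iff g.1).1 g.2
          exact ⟨x, Subtype.ext hx⟩⟩)
    rw [← e, Nat.card_prod, Nat.card_prod, Nat.card_fin, D.card_P]; ring
  have hodd : ¬ 2 ∣ r := by
    intro h2
    have h8 : 4 * r ∣ 4 * (3 * Nat.card D.W) := hr ▸ hcardN ▸ Subgroup.card_subgroup_dvd_card S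
    have := h2.trans (Nat.dvd_of_mul_dvd_mul_left (by norm_num) h8)
    rcases Nat.prime_two.dvd_mul.1 this with h | h
    · omega
    · exact D.odd_card_W h
  -- the stabiliser on triples
  let F : Fin 3 × ↥D.W → ↥D.W := fun x => D.cσ^[(x.1 : ℕ)] (x.2 * v * x.2⁻¹)
  have hF : ∀ x : Fin 3 × ↥D.W × ↥(D.P : Subgroup G),
      D.formMap x * v * (D.formMap x)⁻¹ = ((F (x.1, x.2.1) : D.W) : G) := fun x => D.formMap_conj x v
  have hmem : ∀ x : Fin 3 × ↥D.W, F x ∈ Finset.univ.filter (fun w : D.W => IsConj (v : G) (w : G)) :=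
    fun x => Finset.mem_filter.2 ⟨Finset.mem_univ _, isConj_iff.2 ⟨_, hF (x.1, x.2, 1)⟩⟩
  have hfib : ∀ w ∈ Finset.univ.filter (fun w : D.W => IsConj (v : G) (w : G)),
      (Finset.univ.filter fun x : Fin 3 × ↥D.W => F x = w).card = r := by
    intro w hw
    obtain ⟨n₀, hn₀, hnv⟩ := D.exists_conj_NP v.2 w.2 (Finset.mem_filter.1 hw).2
    have e1 : Nat.card {x : Fin 3 × ↥D.W // F x = w} * 4 = Nat.card S := by
      rw [← D.card_P, ← Nat.card_prod]
      refine Nat.card_congr (Equiv.ofBijective (fun x => (⟨⟨n₀⁻¹ * D.formMap (x.1.1.1, x.1.1.2, x.2),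
          mul_mem (inv_mem hn₀) ((D.mem_NP_iff _).2 ⟨_, rfl⟩)⟩, ?_⟩ : ↥S)) ⟨?_, ?_⟩)
      · refine Subgroup.mem_centralizer_singleton_iff.2 (Subtype.ext ?_)
        apply mul_inv_eq_iff_eq_mul.1
        set g := D.formMap (x.1.1.1, x.1.1.2, x.2)
        calc n₀⁻¹ * g * v * (n₀⁻¹ * g)⁻¹ = n₀⁻¹ * (g * v * g⁻¹) * n₀ := by group
          _ = (v : G) := by rw [hF, x.1.2, ← hnv]; group
      · intro a b h
        have h1 := D.formMap_injective (mul_left_cancel (congrArg (fun z : ↥S => ((z : ↥D.NP) : G)) h))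
        simp only [Prod.mk.injEq] at h1
        exact Prod.ext (Subtype.ext (Prod.ext h1.1 h1.2.1)) h1.2.2
      · intro s
        obtain ⟨x, hx⟩ := (D.mem_NP_iff (n₀ * ((s : ↥D.NP) : G))).1 (mul_mem hn₀ (s : ↥D.NP).2)
        refine ⟨(⟨(x.1, x.2.1), Subtype.ext ?_⟩, x.2.2), Subtype.ext (Subtype.ext ?_)⟩
        · rw [← hF x, hx]
          have hs : ((s : ↥D.NP) : G) * (v : G) = (v : G) * ((s : ↥D.NP) : G) :=
            congrArg Subtype.val (Subgroup.mem_centralizer_singleton_iff.1 s.2)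
          calc n₀ * ((s : ↥D.NP) : G) * v * (n₀ * ((s : ↥D.NP) : G))⁻¹
              = n₀ * (((s : ↥D.NP) : G) * v * ((s : ↥D.NP) : G)⁻¹) * n₀⁻¹ := by group
            _ = (w : G) := by rw [hs, mul_inv_cancel_right, hnv]
        · show n₀⁻¹ * D.formMap (x.1, x.2.1, x.2.2) = _
          rw [show ((x.1, x.2.1, x.2.2) : Fin 3 × ↥D.W × ↥(D.P : Subgroup G)) = x from rfl, hx, inv_mul_cancel_left]
    rw [hr, Nat.card_eq_fintype_card, Fintype.card_subtype] at e1
    omega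
  have htot : ∑ x : Fin 3 × ↥D.W, f (F x) = (r : Res M) *
      ∑ w ∈ Finset.univ.filter (fun w : D.W => IsConj (v : G) (w : G)), f w := by
    rw [← Finset.sum_fiberwise_of_maps_to (fun x _ => hmem x), Finset.mul_sum]
    refine Finset.sum_congr rfl fun w hw => ?_
    rw [Finset.sum_congr rfl fun x hx => congrArg f (Finset.mem_filter.1 hx).2, Finset.sum_const,
      hfib w hw, nsmul_eq_mul]
  have hodd1 : ∀ n : ℕ, ¬ 2 ∣ n → (n : Res M) = 1 := fun n hn => by
    obtain ⟨k, rfl⟩ := Nat.not_even_iff_odd.1 fun e => hn (even_iff_two_dvd.1 e)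
    rw [Nat.cast_add, Nat.cast_mul, Nat.cast_ofNat, CharTwo.two_eq_zero, zero_mul, zero_add, Nat.cast_one]
  rw [hodd1 r hodd, one_mul] at htot
  rw [← htot, Fintype.sum_prod_type]
  refine Finset.sum_congr rfl fun i _ => ?_
  have hconst : ∀ c : D.W, f (F (i, c)) = f (D.cσ^[(i : ℕ)] v) := fun c => by
    have hit : ∀ (k : ℕ) (a b : D.W), D.cσ^[k] (a * b) = D.cσ^[k] a * D.cσ^[k] b := fun k a b =>
      iterate_map_mul D.cσ k a b
    have hinv : D.cσ^[(i : ℕ)] c⁻¹ = (D.cσ^[(i : ℕ)] c)⁻¹ := iterate_map_inv D.cσ i c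
    show f (D.cσ^[(i : ℕ)] (c * v * c⁻¹)) = _
    rw [hit, hit, hinv, hf]
  rw [Finset.sum_congr rfl fun c _ => hconst c, Finset.sum_const, nsmul_eq_mul, Finset.card_univ,
    ← Nat.card_eq_fintype_card, hodd1 _ D.odd_card_W, one_mul]

end Data

end Cfsg.Lib.GW.Chr
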