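import Cfsg.Agent.FourGroupGW.Chars.Section
import Cfsg.Agent.Blocks.Glauberman
import Cfsg.Agent.Chars.Construct

/-!
# Residues modulo two on `W`

The Glauberman correspondent on `W` of an invariant character of `O` is its only constituent of odd multiplicity, so
it gives the residues; a sum over a class of `G` meeting `W` is, modulo two, a sum over three translates by `σ`.
-/

set_option autoImplicit false
set_option linter.unusedSectionVars false
set_option linter.style.haveILetI false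

namespace Cfsg.Lib.GW.Chr

open Cfsg Cfsg.Lib.Chars Cfsg.Lib.Blocks
open scoped ComplexConjugate

universe u

variable {G : Type u} [Group G] [Fintype G] {M : Ideal AlgInt}

namespace Data

variable (D : Data G) [Fintype D.O] [Fintype D.W]

/-- A point of `W` as a point of `O`. -/
def ιW : ↥D.W →* ↥D.O := Subgroup.inclusion D.W_le_O

theorem ιW_coe (v : D.W) : ((D.ιW v : D.O) : G) = v := rfl

/-- `u` acting on `O`. -/
def actU : ↥(Subgroup.zpowers D.u) →* MulAut ↥D.O where
  toFun a :=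
    { toFun := fun y => ⟨(a : G) * y * (a : G)⁻¹, D.conj_mem_O
        (by obtain ⟨k, hk⟩ := a.2; rw [← hk]; exact D.tu.zpow_right k) y.2⟩
      invFun := fun y => ⟨(a : G)⁻¹ * y * ((a : G)⁻¹)⁻¹, D.conj_mem_O
        (by obtain ⟨k, hk⟩ := a.2; rw [← hk]; exact (D.tu.zpow_right k).inv_right) y.2⟩
      left_inv := fun y => Subtype.ext (by simp [mul_assoc])
      right_inv := fun y => Subtype.ext (by simp [mul_assoc])
      map_mul' := fun x y => Subtype.ext (by simp [mul_assoc]) }
  map_one' := MulEquiv.ext fun y => Subtype.ext (by simp)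
  map_mul' a b := MulEquiv.ext fun y => Subtype.ext (by simp [mul_assoc])

theorem actU_u (y : D.O) : D.actU ⟨D.u, Subgroup.mem_zpowers _⟩ y = D.cu y := rfl

theorem zpowers_u_cases (a : ↥(Subgroup.zpowers D.u)) : a = 1 ∨ a = ⟨D.u, Subgroup.mem_zpowers _⟩ := by
  obtain ⟨k, hk⟩ := a.2
  rcases Int.even_or_odd' k with ⟨j, rfl | rfl⟩
  · left; apply Subtype.ext; rw [← hk]
    show D.u ^ (2 * j) = 1
    rw [zpow_mul, show D.u ^ (2 : ℤ) = 1 by rw [zpow_two, D.u2], one_zpow]
  · right; apply Subtype.ext; rw [← hk]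
    show D.u ^ (2 * j + 1) = D.u
    rw [zpow_add, zpow_mul, show D.u ^ (2 : ℤ) = 1 by rw [zpow_two, D.u2], one_zpow, one_mul, zpow_one]

theorem actU_isPGroup : IsPGroup 2 ↥(Subgroup.zpowers D.u) :=
  IsPGroup.of_card (n := 1) (by rw [Nat.card_zpowers, D.u_order, pow_one])

theorem actU_fixed : Glauberman.IsFixed D.actU D.ιW where
  inj := Subgroup.inclusion_injective _
  mem_iff y := by
    constructor
    · intro h
      have := h ⟨D.u, Subgroup.mem_zpowers _⟩
      rw [D.actU_u, D.cu_eq_self_iff] at this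
      exact ⟨⟨y, this⟩, rfl⟩
    · rintro ⟨v, rfl⟩ a
      rcases D.zpowers_u_cases a with rfl | rfl
      · rw [map_one]; rfl
      · rw [D.actU_u, D.cu_eq_self_iff]; exact v.2

theorem inv_actU {f : D.O → ℂ} (hf : D.Inv f) : Glauberman.Inv D.actU f := fun a y => by
  rcases D.zpowers_u_cases a with rfl | rfl
  · rw [map_one]; rfl
  · rw [D.actU_u]; exact hf y

/-- The Glauberman correspondent gives the residues on `W`. -/
theorem exists_corr (hM : IsPModular 2 M) (θ : IrrCharacter D.O) (hθ : D.Inv (θ : D.O → ℂ)) :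
    ∃ β : IrrCharacter D.W, Glauberman.Corr 2 D.ιW θ β ∧
      ∀ v : D.W, res M ((θ : D.O → ℂ) (D.ιW v)) = res M ((β : D.W → ℂ) v) := by
  classical
  haveI : Fact (Nat.Prime 2) := ⟨Nat.prime_two⟩
  haveI := charP_res hM
  have hu := Glauberman.existsUnique_corr D.actU_isPGroup D.odd_card_O D.actU_fixed (D.inv_actU hθ)
  obtain ⟨β, hβ⟩ := hu.exists
  refine ⟨β, hβ, fun v => ?_⟩
  have hχ : IsCharacter D.W (fun c : D.W => (θ : D.O → ℂ) (D.ιW c)) :=
    IsCharacter.comp_hom (isCharacter_of_irr θ.2) D.ιW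
  obtain ⟨m, hm⟩ := IsCharacter.exists_decomp hχ
  have hval : ∀ γ : IrrCharacter D.W,
      classInner (fun c : D.W => (θ : D.O → ℂ) (D.ιW c)) (γ : D.W → ℂ) = (m γ : ℂ) := fun γ => by
    rw [hm, show (∑ ψ : IrrCharacter D.W, m ψ • (ψ : D.W → ℂ)) = ∑ ψ, (m ψ : ℂ) • (ψ : D.W → ℂ) by
      simp [Nat.cast_smul_eq_nsmul], classInner_irrSum]
  have hodd : ∀ γ : IrrCharacter D.W, (m γ : Res M) = if γ = β then 1 else 0 := by
    intro γ
    split_ifs with h
    · subst h
      obtain ⟨n, hn, hnd⟩ := hβ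
      rw [hval, Nat.cast_inj] at hn
      subst hn
      obtain ⟨r, hr⟩ := Nat.not_even_iff_odd.1 fun e => hnd (even_iff_two_dvd.1 e)
      rw [hr, Nat.cast_add, Nat.cast_mul, Nat.cast_ofNat, CharTwo.two_eq_zero, zero_mul, zero_add, Nat.cast_one]
    · refine (res_natCast_eq_zero_iff hM _).2 ?_
      by_contra hd
      exact h (hu.unique ⟨m γ, hval γ, hd⟩ hβ)
  have e := congrFun hm v
  simp only [Finset.sum_apply, Pi.smul_apply, nsmul_eq_mul, Pi.natCast_def, Pi.mul_apply] at e
  rw [e, res_sum _ _ fun γ _ => mul_mem (natCast_mem_place _) (apply_mem_place hM (isCharacter_of_irr γ.2) _),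
    Finset.sum_congr rfl fun γ _ => by
      rw [res_mul (natCast_mem_place _) (apply_mem_place hM (isCharacter_of_irr γ.2) _), res_natCast, hodd γ],
    Finset.sum_eq_single β (fun γ _ h => by rw [if_neg h, zero_mul]) (fun h => absurd (Finset.mem_univ _) h),
    if_pos rfl, one_mul]

/-- Sums of invariant residues over `O` are sums over `W`. -/
theorem sum_O_eq_W (hM : IsPModular 2 M) {f : D.O → Res M} (hf : ∀ y, f (D.cu y) = f y) :
    ∑ y : D.O, f y = ∑ v : D.W, f (D.ιW v) := by
  classical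
  haveI := charP_res hM
  rw [← Finset.sum_filter_add_sum_filter_not Finset.univ (fun y : D.O => (y : G) ∈ D.W)]
  have h0 : ∑ y ∈ Finset.univ.filter (fun y : D.O => ¬ (y : G) ∈ D.W), f y = 0 := by
    refine Finset.sum_involution (fun y _ => D.cu y) (fun y _ => by rw [hf, CharTwo.add_self_eq_zero])
      (fun y hy _ e => (Finset.mem_filter.1 hy).2 ((D.cu_eq_self_iff y).1 e)) (fun y hy => ?_)
      fun y _ => D.cu_cu y
    refine Finset.mem_filter.2 ⟨Finset.mem_univ _, fun h => (Finset.mem_filter.1 hy).2 ?_⟩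
    have h1 := (D.cu_eq_self_iff (D.cu y)).2 h
    rw [D.cu_cu] at h1
    exact (D.cu_eq_self_iff y).1 h1.symm
  rw [h0, add_zero]
  symm
  refine Finset.sum_bij (fun v _ => D.ιW v) (fun v _ => Finset.mem_filter.2 ⟨Finset.mem_univ _, v.2⟩)
    (fun a _ b _ h => Subgroup.inclusion_injective D.W_le_O h)
    (fun y hy => ⟨⟨y, (Finset.mem_filter.1 hy).2⟩, Finset.mem_univ _, Subtype.ext rfl⟩) fun _ _ => rfl

end Data

end Cfsg.Lib.GW.Chr
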